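import Mathlib
import Cfsg.Prelude.Def_FusionComponents
import Cfsg.Prelude.Def_Local

/-! S5156 farm (TRS = terminating residual series): definitions. -/

set_option autoImplicit false
open Cfsg

namespace Cfsg.Agent.Helper21.TRS

variable {Ω : Type*} [Group Ω] {S : Subgroup Ω}

/-- `F` is constrained and `Aut_F(O_p(F))` is `p`-solvable. -/
def PP (p : ℕ) (F : FusionSystem S) : Prop :=
  F.IsConstrained p ∧ IsPSolvable p ↥(F.autGroup F.core)

/-- `O^{p'}(G)`: the subgroup generated by the elements of `p`-power order. -/
def opp (p : ℕ) (G : Type*) [Group G] : Subgroup G :=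
  Subgroup.closure {g : G | ∃ k : ℕ, orderOf g = p ^ k}

end Cfsg.Agent.Helper21.TRS
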