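import Mathlib
import Cfsg.Agent.Lib.TRS.TRSDefs
import Cfsg.Agent.Lib.Helper23.PSolvable
import Cfsg.Agent.Lib.Helper10.FusPSolvA

/-! S5156 farm, piece TRS-EXTA. -/

set_option autoImplicit false
open Cfsg

namespace Cfsg.Agent.Helper21.TRS

/-- PIECE TRS-EXTA. An extension of a normal `p'`-subgroup by a `p`-solvable group is `p`-solvable.
Mirror the proof of `Cfsg.Agent.Helper10.FusPSolv.isPSolvable_of_normal_pGroup` (FusPSolvA.lean): pull the chain of
`G ⧸ N` back along `mk' N` and prepend `⊥`; the first factor has `relIndex ⊥ N = Nat.card N`, coprime to `p`. -/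
theorem isPSolvable_of_normal_pPrimeGroup {G : Type*} [Group G] [Finite G] {p : ℕ} [Fact p.Prime]
    (N : Subgroup G) [N.Normal] (hNp : (Nat.card N).Coprime p) (h : IsPSolvable p (G ⧸ N)) :
    IsPSolvable p G := by
  obtain ⟨n, H, h0, hn, hmono, hnorm, hfac⟩ := h
  have hπs : Function.Surjective (QuotientGroup.mk' N) := QuotientGroup.mk'_surjective N
  let K : Fin (n + 1 + 1) → Subgroup G := Fin.cons ⊥ (fun i => (H i).comap (QuotientGroup.mk' N))
  have hK0 : K 0 = ⊥ := rfl
  have hKs : ∀ i : Fin (n + 1), K i.succ = (H i).comap (QuotientGroup.mk' N) := fun i => by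
    show Fin.cons (α := fun _ => Subgroup G) ⊥ (fun i => (H i).comap (QuotientGroup.mk' N)) i.succ = _
    rw [Fin.cons_succ]
  have hstep : ∀ i : Fin (n + 1), K i.castSucc ≤ K i.succ := by
    intro i
    induction i using Fin.cases with
    | zero => rw [Fin.castSucc_zero, hK0]; exact bot_le
    | succ j =>
      rw [← Fin.succ_castSucc, hKs, hKs]
      exact Subgroup.comap_mono (hmono (Fin.castSucc_le_succ j))
  refine ⟨n + 1, K, hK0, ?_, Fin.monotone_iff_le_succ.mpr hstep, ?_, ?_⟩
  · have : Fin.last (n + 1) = (Fin.last n).succ := rfl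
    rw [this, hKs, hn, Subgroup.comap_top]
  · intro i
    induction i using Fin.cases with
    | zero => rw [hK0]; infer_instance
    | succ j => rw [hKs]; exact (hnorm j).comap (QuotientGroup.mk' N)
  · intro i
    induction i using Fin.cases with
    | zero =>
      right
      rw [Fin.castSucc_zero, hK0, hKs, h0, Subgroup.relIndex_bot_left]
      have hker : (⊥ : Subgroup (G ⧸ N)).comap (QuotientGroup.mk' N) = N := by
        have : (⊥ : Subgroup (G ⧸ N)).comap (QuotientGroup.mk' N) = (QuotientGroup.mk' N).ker := rfl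
        rw [this, QuotientGroup.ker_mk']
      rw [hker]
      exact hNp
    | succ j =>
      have e : (K j.succ.castSucc).relIndex (K j.succ.succ) =
          (H j.castSucc).relIndex (H j.succ) := by
        rw [← Fin.succ_castSucc, hKs, hKs, Subgroup.relIndex_comap,
          Subgroup.map_comap_eq_self_of_surjective hπs]
      rw [e]
      exact hfac j

end Cfsg.Agent.Helper21.TRS
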