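import Mathlib
import Cfsg.Agent.Lib.TRS.TRSExtA
import Cfsg.Agent.Lib.Helper7.DlSylC2
import Cfsg.Agent.Lib.Helper7.Cores
import Cfsg.Agent.Lib.Helper10.Cores

/-! S5156 farm, piece TRS-EXT. -/

set_option autoImplicit false
open Cfsg

namespace Cfsg.Agent.Helper21.TRS

universe u

/-- the quotient by a nontrivial normal subgroup is smaller -/
theorem trsext_card_lt {G : Type u} [Group G] [Finite G] (K : Subgroup G) [K.Normal] (hK : K ≠ ⊥) :
    Nat.card (G ⧸ K) < Nat.card G := by
  have h1 := Subgroup.card_eq_card_quotient_mul_card_subgroup K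
  have h2 : 1 < Nat.card K := (Subgroup.one_lt_card_iff_ne_bot K).mpr hK
  have h3 : 0 < Nat.card (G ⧸ K) := Nat.card_pos
  rw [h1]
  nlinarith

/-- The inductive step: with `K ≤ N` normal in `G`, the quotient `G ⧸ K` satisfies the hypotheses
again, for the image of `N`. -/
theorem trsext_step {G : Type u} [Group G] [Finite G] {p : ℕ} [Fact p.Prime]
    (N : Subgroup G) [N.Normal] (hN : IsPSolvable p ↥N) (hQ : IsPSolvable p (G ⧸ N))
    (K : Subgroup G) [K.Normal]
    (ih : ∀ (M : Subgroup (G ⧸ K)) [M.Normal], IsPSolvable p ↥M → IsPSolvable p ((G ⧸ K) ⧸ M) →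
      IsPSolvable p (G ⧸ K)) :
    IsPSolvable p (G ⧸ K) := by
  have hπs : Function.Surjective (QuotientGroup.mk' K) := QuotientGroup.mk'_surjective K
  have hMn : (N.map (QuotientGroup.mk' K)).Normal :=
    Subgroup.Normal.map inferInstance (QuotientGroup.mk' K) hπs
  have hM : IsPSolvable p ↥(N.map (QuotientGroup.mk' K)) :=
    Cfsg.Agent.Helper23.PSolv.isPSolvable_of_surjective ((QuotientGroup.mk' K).subgroupMap N)
      ((QuotientGroup.mk' K).subgroupMap_surjective N) hN
  have hle : N ≤ (N.map (QuotientGroup.mk' K)).comap (QuotientGroup.mk' K) :=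
    Subgroup.le_comap_map _ _
  have hfs : Function.Surjective
      (QuotientGroup.map N (N.map (QuotientGroup.mk' K)) (QuotientGroup.mk' K) hle) := by
    intro y
    obtain ⟨x, rfl⟩ := QuotientGroup.mk'_surjective (N.map (QuotientGroup.mk' K)) y
    obtain ⟨g, rfl⟩ := hπs x
    exact ⟨QuotientGroup.mk' N g, rfl⟩
  have hMQ : IsPSolvable p ((G ⧸ K) ⧸ N.map (QuotientGroup.mk' K)) :=
    Cfsg.Agent.Helper23.PSolv.isPSolvable_of_surjective _ hfs hQ
  exact ih (N.map (QuotientGroup.mk' K)) hM hMQ

theorem trsext_main (p : ℕ) [Fact p.Prime] : ∀ (n : ℕ) (G : Type u) [Group G] [Finite G]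
    (N : Subgroup G) [N.Normal], Nat.card G = n → IsPSolvable p ↥N → IsPSolvable p (G ⧸ N) →
    IsPSolvable p G := by
  intro n
  induction n using Nat.strong_induction_on with
  | _ n ih =>
    intro G _ _ N _ hn hN hQ
    by_cases hNb : N = ⊥
    · subst hNb
      exact Cfsg.Agent.Helper23.PSolv.isPSolvable_of_mulEquiv QuotientGroup.quotientBot hQ
    · have hnt : Nontrivial ↥N := (Subgroup.nontrivial_iff_ne_bot N).mpr hNb
      have hcP : (pCore p ↥N).Characteristic := Cfsg.Agent.Helper7.pCore_characteristic p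
      have hcQ : (pPrimeCore p ↥N).Characteristic := Cfsg.Agent.Helper7.pPrimeCore_characteristic p
      rcases Cfsg.Agent.Helper7.DlSylC2.pCore_or_pPrimeCore_ne_bot (p := p) (G := ↥N) hN with h | h
      · have hKn : ((pCore p ↥N).map N.subtype).Normal :=
          ConjAct.normal_of_characteristic_of_normal
        have hKb : (pCore p ↥N).map N.subtype ≠ ⊥ := by
          rw [Ne, Subgroup.map_eq_bot_iff_of_injective _ N.subtype_injective]
          exact h
        have hKp : IsPGroup p ↥((pCore p ↥N).map N.subtype) :=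
          (Cfsg.Agent.Helper10.pCore_isPGroup p).map N.subtype
        have hlt := trsext_card_lt _ hKb
        apply Cfsg.Agent.Helper10.FusPSolv.isPSolvable_of_normal_pGroup _ hKp
        apply trsext_step N hN hQ
        intro M _ hM hMQ
        exact ih _ (hn ▸ hlt) _ M rfl hM hMQ
      · have hKn : ((pPrimeCore p ↥N).map N.subtype).Normal :=
          ConjAct.normal_of_characteristic_of_normal
        have hKb : (pPrimeCore p ↥N).map N.subtype ≠ ⊥ := by
          rw [Ne, Subgroup.map_eq_bot_iff_of_injective _ N.subtype_injective]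
          exact h
        have hKp : (Nat.card ↥((pPrimeCore p ↥N).map N.subtype)).Coprime p := by
          rw [Cfsg.Agent.Helper7.card_map_subtype]
          exact Cfsg.Agent.Helper10.card_pPrimeCore_coprime p
        have hlt := trsext_card_lt _ hKb
        apply isPSolvable_of_normal_pPrimeGroup _ hKp
        apply trsext_step N hN hQ
        intro M _ hM hMQ
        exact ih _ (hn ▸ hlt) _ M rfl hM hMQ

/-- PIECE TRS-EXT. Extensions of `p`-solvable groups are `p`-solvable (finite groups).
Strong induction on `Nat.card G` (generalize `G`, `N`). If `N = ⊥`, `G ≃* G ⧸ N`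
(`isPSolvable_of_mulEquiv`). Else `N` is nontrivial and `p`-solvable, so by
`Cfsg.Agent.Helper7.DlSylC2.pCore_or_pPrimeCore_ne_bot` one of `K' := pCore p N`, `pPrimeCore p N` is `≠ ⊥`;
`K := K'.map N.subtype` is normal in `G` (`K'` is characteristic in `N`: it is an `sSup` of a family of
normal subgroups stable under every automorphism of `N`, in particular under conjugation by `G`),
`K ≠ ⊥`, `K` is a `p`-group resp. has order prime to `p`. In `G ⧸ K` (smaller order) the image of `N` is a
normal subgroup, a quotient of `N` hence `p`-solvable (`isPSolvable_of_surjective`), with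
`(G ⧸ K) ⧸ (N.map (mk' K))` a quotient of `G ⧸ N` (`QuotientGroup.map` / `isPSolvable_of_surjective`),
so `G ⧸ K` is `p`-solvable by induction. Conclude with
`Cfsg.Agent.Helper10.FusPSolv.isPSolvable_of_normal_pGroup` resp. `isPSolvable_of_normal_pPrimeGroup`. -/
theorem isPSolvable_of_normal_of_quotient {G : Type*} [Group G] [Finite G] {p : ℕ} [Fact p.Prime]
    (N : Subgroup G) [N.Normal] (hN : IsPSolvable p ↥N) (hQ : IsPSolvable p (G ⧸ N)) :
    IsPSolvable p G := by
  exact trsext_main p _ G N rfl hN hQ

end Cfsg.Agent.Helper21.TRS
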