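import Mathlib
import Cfsg.Agent.Lib.TRS.TRSExt
import Cfsg.Agent.Lib.Helper22.PResidual

/-! S5156 farm, piece TRS-GP (separate file): `O^p(A)` `p`-solvable implies `A` `p`-solvable. -/

set_option autoImplicit false
open Cfsg

namespace Cfsg.Agent.Helper21.TRS

/-- a finite `p`-group is `p`-solvable (chain `⊥ ≤ ⊤`) -/
theorem trsgp_isPSolvable_of_isPGroup {Q : Type*} [Group Q] [Finite Q] {p : ℕ} [Fact p.Prime]
    (hQ : IsPGroup p Q) : IsPSolvable p Q := by
  obtain ⟨m, hm⟩ := IsPGroup.iff_card.mp hQ
  refine ⟨1, fun i => if i = 0 then ⊥ else ⊤, ?_, ?_, ?_, ?_, ?_⟩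
  · simp
  · simp
  · intro i j hij
    by_cases hi : i = 0
    · simp [hi]
    · have hj : j ≠ 0 := by
        intro hj
        apply hi
        rw [hj] at hij
        exact le_antisymm hij (Fin.zero_le i)
      simp [hi, hj]
  · intro i
    by_cases hi : i = 0
    · simp only [hi, if_true]; infer_instance
    · simp only [hi, if_false]; infer_instance
  · intro i
    left
    refine ⟨m, ?_⟩
    have hi : i = 0 := Subsingleton.elim _ _
    subst hi
    simp only [Fin.castSucc_zero, Fin.succ_zero_eq_one, if_true]
    have h1 : ((1 : Fin 2) = 0) = False := by simp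
    simp only [h1, if_false]
    rw [Subgroup.relIndex_top_right, Subgroup.index_bot, hm]

/-- PIECE TRS-GP (primed copy, separate file). If `O^p(A)` is `p`-solvable then so is `A`. -/
theorem isPSolvable_of_pResidual' {A : Type*} [Group A] [Finite A] {p : ℕ} [Fact p.Prime]
    (h : IsPSolvable p ↥(pResidual p A)) : IsPSolvable p A := by
  haveI : (pResidual p A).Normal := Cfsg.Agent.Helper22.pResidual_normal
  have hQ : IsPGroup p (A ⧸ pResidual p A) := Cfsg.Agent.Helper22.isPGroup_quotient_pResidual
  exact isPSolvable_of_normal_of_quotient (pResidual p A) h (trsgp_isPSolvable_of_isPGroup hQ)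

end Cfsg.Agent.Helper21.TRS
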