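import Mathlib
import Cfsg.Agent.Lib.TRS.TRSExt
import Cfsg.Agent.Lib.TRS.TRSGrpB

/-! S5156 farm, pieces TRS-GPP, TRS-GP. -/

set_option autoImplicit false
open Cfsg

namespace Cfsg.Agent.Helper21.TRS

/-- PIECE TRS-GPP. If `O^{p'}(A)` (generated by the `p`-elements) is `p`-solvable then so is the finite group `A`.
`N := opp p A` is normal (its generating set is stable under conjugation: `Subgroup.closure` of a conjugation-stable
set; e.g. show `N = Subgroup.normalClosure _` or prove `Normal` by `Subgroup.closure_induction`). Every element of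
`A ⧸ N` has order prime to `p`: for `g : A` with `orderOf g = p^e * m`, `p ∤ m`, the power `g^m` has `p`-power order,
so `g^m ∈ N` and `(g N)^m = 1`. Hence `Nat.card (A ⧸ N)` is prime to `p` (Cauchy: `exists_prime_orderOf_dvd_card`),
and `A ⧸ N` is `p`-solvable (chain `⊥ ≤ ⊤`, `n = 1`, index `Nat.card (A ⧸ N)`). Conclude with
`isPSolvable_of_normal_of_quotient`. -/
theorem isPSolvable_of_opp {A : Type*} [Group A] [Finite A] {p : ℕ} [Fact p.Prime]
    (h : IsPSolvable p ↥(opp p A)) : IsPSolvable p A := by
  have hp : p.Prime := Fact.out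
  have hN : (opp p A).Normal := by
    refine ⟨fun n hn g => ?_⟩
    have hle : (opp p A).map (MulAut.conj g).toMonoidHom ≤ opp p A := by
      unfold opp
      rw [MonoidHom.map_closure, Subgroup.closure_le]
      rintro _ ⟨x, ⟨k, hk⟩, rfl⟩
      apply Subgroup.subset_closure
      refine ⟨k, ?_⟩
      show orderOf ((MulAut.conj g) x) = p ^ k
      rw [MulEquiv.orderOf_eq]
      exact hk
    have := hle ⟨n, hn, rfl⟩
    simpa [MulAut.conj_apply] using this
  have hcop : (Nat.card (A ⧸ opp p A)).Coprime p := by
    rw [Nat.coprime_comm, Nat.Prime.coprime_iff_not_dvd hp]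
    intro hdvd
    obtain ⟨q, hq⟩ := exists_prime_orderOf_dvd_card' p hdvd
    obtain ⟨g, rfl⟩ := QuotientGroup.mk_surjective q
    have hpos : 0 < orderOf g := orderOf_pos g
    obtain ⟨e, m, hm, hnm⟩ := Nat.exists_eq_pow_mul_and_not_dvd hpos.ne' p hp.ne_one
    have hmpos : 0 < m := by
      rcases Nat.eq_zero_or_pos m with h0 | h0
      · rw [h0, mul_zero] at hnm; omega
      · exact h0
    have hgm : orderOf (g ^ m) = p ^ e := by
      rw [orderOf_pow' g hmpos.ne', hnm, Nat.gcd_mul_left_left, Nat.mul_div_cancel _ hmpos]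
    have hmem : g ^ m ∈ opp p A := Subgroup.subset_closure ⟨e, hgm⟩
    have h1 : ((g : A ⧸ opp p A)) ^ m = 1 := by
      rw [← QuotientGroup.mk_pow]
      exact (QuotientGroup.eq_one_iff _).mpr hmem
    have h2 : p ∣ m := by
      rw [← hq]
      exact orderOf_dvd_of_pow_eq_one h1
    exact hm h2
  have hQ : IsPSolvable p (A ⧸ opp p A) := by
    refine ⟨1, ![⊥, ⊤], rfl, rfl, ?_, ?_, ?_⟩
    · intro i j hij
      fin_cases i <;> fin_cases j <;> simp at hij ⊢
    · intro i
      fin_cases i
      · exact Subgroup.normal_bot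
      · exact Subgroup.normal_top
    · intro i
      fin_cases i
      right
      show ((⊥ : Subgroup (A ⧸ opp p A)).relIndex ⊤).Coprime p
      rw [Subgroup.relIndex_top_right, Subgroup.index_bot]
      exact hcop
  exact isPSolvable_of_normal_of_quotient (opp p A) h hQ

/-- PIECE TRS-GP. If `O^p(A) = Cfsg.pResidual p A` (generated by the `p'`-elements) is `p`-solvable then so is the
finite group `A`. Same proof as `isPSolvable_of_opp` with the roles exchanged: `A ⧸ N` is a `p`-group
(for `g` with `orderOf g = p^e * m`, `g^(p^e)` has order prime to `p`, so lies in `N`), so its order is a power of `p`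
and it is `p`-solvable (chain `⊥ ≤ ⊤`). -/
theorem isPSolvable_of_pResidual {A : Type*} [Group A] [Finite A] {p : ℕ} [Fact p.Prime]
    (h : IsPSolvable p ↥(pResidual p A)) : IsPSolvable p A :=
  isPSolvable_of_pResidual' h

end Cfsg.Agent.Helper21.TRS
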