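import Mathlib
import Cfsg.Agent.Lib.TRS.TRSGrp
import Cfsg.Agent.Lib.Helper25.FusionRecept

/-! S5156 farm, piece TRS-AUTUP. -/

set_option autoImplicit false
open Cfsg

namespace Cfsg.Agent.Helper21.TRS

variable {Ω : Type*} [Group Ω] {S : Subgroup Ω}

/-- PIECE TRS-AUTUP (a). `hEF.2 Q hQS : (opp p ↥(F.autGroup Q)).map (F.autGroup Q).subtype ≤ E.autGroup Q` (unfold `opp`),
so `opp p ↥(F.autGroup Q)` embeds in `↥(E.autGroup Q)` (`Subgroup.inclusion` after `Subgroup.map`; or the hom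
`x ↦ ⟨x.1.1, _⟩`), hence is `p`-solvable (`Cfsg.Agent.Helper23.isPSolvable_of_injective` — check the namespace in
`Lib/Helper23/PSolvable.lean`); conclude with `isPSolvable_of_opp` (`Finite ↥(F.autGroup Q)` as `Q ≤ S` is finite). -/
theorem isPSolvable_autGroup_of_primeToP [Finite S] (p : ℕ) [Fact p.Prime] (F E : FusionSystem S)
    (hEF : E.HasPrimeToPIndexIn F p) {Q : Subgroup Ω} (hQS : Q ≤ S)
    (h : IsPSolvable p ↥(E.autGroup Q)) : IsPSolvable p ↥(F.autGroup Q) := by
  have hfinQ : Finite Q := Cfsg.Agent.Helper25.finite_of_le_finite hQS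
  have hfinA : Finite (MulAut Q) :=
    Finite.of_injective (fun α : MulAut Q => (α : Q → Q)) DFunLike.coe_injective
  have hle : (opp p ↥(F.autGroup Q)).map (F.autGroup Q).subtype ≤ E.autGroup Q := hEF.2 Q hQS
  let f : ↥(opp p ↥(F.autGroup Q)) →* ↥(E.autGroup Q) :=
    { toFun := fun x => ⟨((x : ↥(F.autGroup Q)) : MulAut Q), hle ⟨x.1, x.2, rfl⟩⟩
      map_one' := Subtype.ext rfl
      map_mul' := fun _ _ => Subtype.ext rfl }
  have hf : Function.Injective f := by
    intro a b hab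
    have h1 : ((a : ↥(F.autGroup Q)) : MulAut Q) = ((b : ↥(F.autGroup Q)) : MulAut Q) :=
      congrArg (fun z : ↥(E.autGroup Q) => (z : MulAut Q)) hab
    exact Subtype.ext (Subtype.ext h1)
  exact isPSolvable_of_opp (Cfsg.Agent.Helper23.PSolv.isPSolvable_of_injective f hf h)

/-- PIECE TRS-AUTUP (b). Same with `hDE.2.2 Q hQT` and `isPSolvable_of_pResidual`. -/
theorem isPSolvable_autGroup_of_pPower [Finite S] (p : ℕ) [Fact p.Prime] {T : Subgroup Ω}
    (E : FusionSystem S) (D : FusionSystem T) (hDE : D.HasPPowerIndexIn E p) (hTS : T ≤ S)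
    {Q : Subgroup Ω} (hQT : Q ≤ T)
    (h : IsPSolvable p ↥(D.autGroup Q)) : IsPSolvable p ↥(E.autGroup Q) := by
  have hfinQ : Finite Q := Cfsg.Agent.Helper25.finite_of_le_finite (hQT.trans hTS)
  have hfinA : Finite (MulAut Q) :=
    Finite.of_injective (fun α : MulAut Q => (α : Q → Q)) DFunLike.coe_injective
  have hle : (pResidual p ↥(E.autGroup Q)).map (E.autGroup Q).subtype ≤ D.autGroup Q :=
    hDE.2.2 Q hQT
  let f : ↥(pResidual p ↥(E.autGroup Q)) →* ↥(D.autGroup Q) :=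
    { toFun := fun x => ⟨((x : ↥(E.autGroup Q)) : MulAut Q), hle ⟨x.1, x.2, rfl⟩⟩
      map_one' := Subtype.ext rfl
      map_mul' := fun _ _ => Subtype.ext rfl }
  have hf : Function.Injective f := by
    intro a b hab
    have h1 : ((a : ↥(E.autGroup Q)) : MulAut Q) = ((b : ↥(E.autGroup Q)) : MulAut Q) :=
      congrArg (fun z : ↥(D.autGroup Q) => (z : MulAut Q)) hab
    exact Subtype.ext (Subtype.ext h1)
  exact isPSolvable_of_pResidual (Cfsg.Agent.Helper23.PSolv.isPSolvable_of_injective f hf h)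

end Cfsg.Agent.Helper21.TRS
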