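import Mathlib
import Cfsg.Agent.Lib.TRS.TRSDefs
import Cfsg.Agent.Lib.Helper10.FusPSolvB
import Cfsg.Agent.Lib.Helper3.ModelTransport

set_option autoImplicit false
universe u
open Cfsg

namespace Cfsg.Agent.Helper21.TRS

/-- `PP` in terms of models. -/
theorem pp_iff_models {Ω : Type u} [Group Ω] {S : Subgroup Ω} [Finite S] (p : ℕ) [Fact p.Prime]
    (hS : IsPGroup p S) (F : FusionSystem S) :
    PP p F ↔ (F.IsConstrained p ∧ ∀ (G : Type u) [Group G] (ι : S →* G),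
      F.IsModel p G ι → IsPSolvable p G) := by
  constructor
  · rintro ⟨hc, hs⟩
    exact ⟨hc, fun G _ ι hm =>
      (Cfsg.Agent.Helper10.FusPSolv.isPSolvable_iff_of_isModel F hS hm).mpr hs⟩
  · rintro ⟨hc, hs⟩
    obtain ⟨G, hG, ι, hm⟩ := Cfsg.Agent.Helper3.Model.exists_model p hS F hc
    exact ⟨hc, (Cfsg.Agent.Helper10.FusPSolv.isPSolvable_iff_of_isModel F hS hm).mp (hs G ι hm)⟩

end Cfsg.Agent.Helper21.TRS
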