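import Mathlib
import Cfsg.Agent.Lib.TRS.TRSDefs
import Cfsg.Agent.Lib.Helper25.FusionNormal
import Cfsg.Agent.Lib.Helper25.FusionNormal2
import Cfsg.Agent.Lib.Helper25.FusionInvariant
import Cfsg.Agent.Lib.Helper25.FusionPrimeIndex

/-! S5156 farm, piece TRS-COREA. -/

set_option autoImplicit false
open Cfsg

namespace Cfsg.Agent.Helper21.TRS

variable {Ω : Type*} [Group Ω] {S : Subgroup Ω}

/-- PIECE TRS-COREA. The image under `α ∈ Aut_F(T)` of a subgroup `Q` normal in the `F`-invariant subsystem `E`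
(over `T`) is again normal in `E`. Let `Q' = α(Q)`. Given `φ ∈ E.Hom P` (so `P ≤ T`), transport it by `α⁻¹`
(third clause of `IsInvariantIn` applied to `α⁻¹ ∈ F.autGroup T`): `φ' := α⁻¹ φ α ∈ E.Hom (α⁻¹ P)`. Extend `φ'` to
`ψ' ∈ E.Hom (α⁻¹P ⊔ Q)` with `ψ'(Q) = Q` (normality of `Q`), and transport `ψ'` back by `α`:
`ψ := α ψ' α⁻¹ ∈ E.Hom (α(α⁻¹P ⊔ Q)) = E.Hom (P ⊔ Q')`; it extends `φ` and `ψ(Q') = Q'`. -/
theorem isNormal_map_of_invariant [Finite S] (F : FusionSystem S) {T : Subgroup Ω} (E : FusionSystem T)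
    (hE : E.IsInvariantIn F) {Q : Subgroup Ω} (hQ : E.IsNormal Q) (α : MulAut T) (hα : α ∈ F.autGroup T) :
    E.IsNormal ((Q.subgroupOf T).map (T.subtype.comp α.toMonoidHom)) := by
  open Cfsg.FusionSystem Cfsg.Agent.Helper25 in
  have hTS : T ≤ S := hE.2.1.1
  have hAI : AutInv F E := (strongInv_of_isInvariantIn hE).autInv hTS
  have hαi : α⁻¹ ∈ F.autGroup T := Subgroup.inv_mem _ hα
  have hQT : Q ≤ T := hQ.1
  refine ⟨map_aut_le α Q, ?_⟩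
  intro P φ hφ
  have hPT : P ≤ T := (E.le_of_mem hφ).1
  have hφT : ∀ x : P, φ x ∈ T := (E.le_of_mem hφ).2
  -- step 1: transport `φ` by `α⁻¹`
  obtain ⟨φ₀, hφ₀, hφ₀v⟩ := hAI hαi hPT hφ
  have hP₀T : (P.subgroupOf T).map (T.subtype.comp (α⁻¹).toMonoidHom) ≤ T := map_aut_le α⁻¹ P
  -- step 2: extend over `Q`
  obtain ⟨ψ₀, hψ₀, hψ₀P, hψ₀Q⟩ := hQ.2 _ φ₀ hφ₀
  have hPQT : (P.subgroupOf T).map (T.subtype.comp (α⁻¹).toMonoidHom) ⊔ Q ≤ T := sup_le hP₀T hQT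
  have hψ₀T : ∀ z, ψ₀ z ∈ T := (E.le_of_mem hψ₀).2
  have hQle : Q ≤ (P.subgroupOf T).map (T.subtype.comp (α⁻¹).toMonoidHom) ⊔ Q := le_sup_right
  have hPle : P ≤ P ⊔ (Q.subgroupOf T).map (T.subtype.comp α.toMonoidHom) := le_sup_left
  -- step 3: transport back by `α`
  obtain ⟨χ, hχ, hχv⟩ := hAI hα hPQT hψ₀
  -- `α (α⁻¹ x) = x`
  have hback : ∀ (x : Ω) (hx : x ∈ T) (hm : ((α⁻¹ ⟨x, hx⟩ : T) : Ω) ∈ T),
      ((α ⟨((α⁻¹ ⟨x, hx⟩ : T) : Ω), hm⟩ : T) : Ω) = x := by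
    intro x hx hm
    have : (⟨((α⁻¹ ⟨x, hx⟩ : T) : Ω), hm⟩ : T) = α⁻¹ ⟨x, hx⟩ := Subtype.ext rfl
    rw [this]
    simp
  have hP₀mem : ∀ x : P, ((α⁻¹ ⟨(x : Ω), hPT x.2⟩ : T) : Ω) ∈
      (P.subgroupOf T).map (T.subtype.comp (α⁻¹).toMonoidHom) := fun x => mem_map_aut hPT α⁻¹ x
  -- step 4
  have hle : P ⊔ (Q.subgroupOf T).map (T.subtype.comp α.toMonoidHom) ≤
      (((P.subgroupOf T).map (T.subtype.comp (α⁻¹).toMonoidHom) ⊔ Q).subgroupOf T).map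
        (T.subtype.comp α.toMonoidHom) := by
    apply sup_le
    · intro x hx
      refine (mem_map_aut_iff hPQT α).mpr ⟨⟨_, le_sup_left (b := Q) (hP₀mem ⟨x, hx⟩)⟩, ?_⟩
      exact hback x (hPT hx) _
    · intro y hy
      obtain ⟨q, rfl⟩ := (mem_map_aut_iff hQT α).mp hy
      exact (mem_map_aut_iff hPQT α).mpr ⟨⟨q, hQle q.2⟩, rfl⟩
  refine ⟨χ.comp (Subgroup.inclusion hle), restrict_mem E hle hχ, ?_, ?_⟩
  · intro x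
    show χ ⟨(x : Ω), hle (hPle x.2)⟩ = φ x
    have h1 := hP₀mem x
    have hz := hχv ⟨_, le_sup_left (b := Q) h1⟩
    have e1 : ((α ⟨((α⁻¹ ⟨(x : Ω), hPT x.2⟩ : T) : Ω), hPQT (le_sup_left (b := Q) h1)⟩ : T) : Ω) =
        (x : Ω) := hback x (hPT x.2) _
    rw [hom_congr_val χ (hle (hPle x.2))
      (mem_map_aut hPQT α ⟨_, le_sup_left (b := Q) h1⟩) e1.symm, hz]
    have e2 : ψ₀ ⟨((α⁻¹ ⟨(x : Ω), hPT x.2⟩ : T) : Ω), le_sup_left (b := Q) h1⟩ = φ₀ ⟨_, h1⟩ :=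
      hψ₀P ⟨_, h1⟩
    have e3 := hφ₀v x
    have e4 : (⟨ψ₀ ⟨((α⁻¹ ⟨(x : Ω), hPT x.2⟩ : T) : Ω), le_sup_left (b := Q) h1⟩, hψ₀T _⟩ : T) =
        α⁻¹ ⟨φ x, hφT x⟩ := by
      apply Subtype.ext
      show ψ₀ _ = _
      rw [e2]
      exact e3
    have e5 : (α ⟨ψ₀ ⟨((α⁻¹ ⟨(x : Ω), hPT x.2⟩ : T) : Ω), le_sup_left (b := Q) h1⟩, hψ₀T _⟩ : T) =
        ⟨φ x, hφT x⟩ := by
      rw [e4]
      simp
    exact congrArg Subtype.val e5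
  · apply le_antisymm
    · rintro _ ⟨z, hz, rfl⟩
      have hz' : (z : Ω) ∈ (Q.subgroupOf T).map (T.subtype.comp α.toMonoidHom) :=
        Subgroup.mem_subgroupOf.mp hz
      obtain ⟨q, hq⟩ := (mem_map_aut_iff hQT α).mp hz'
      have hχq := hχv ⟨(q : Ω), hQle q.2⟩
      show χ ⟨(z : Ω), hle z.2⟩ ∈ (Q.subgroupOf T).map (T.subtype.comp α.toMonoidHom)
      rw [hom_congr_val χ (hle z.2)
        (mem_map_aut hPQT α ⟨(q : Ω), hQle q.2⟩) hq.symm, hχq]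
      have hψq : ψ₀ ⟨(q : Ω), hQle q.2⟩ ∈ Q :=
        hψ₀Q.le ⟨_, Subgroup.mem_subgroupOf.mpr q.2, rfl⟩
      exact (mem_map_aut_iff hQT α).mpr ⟨⟨_, hψq⟩, rfl⟩
    · intro y hy
      obtain ⟨q, rfl⟩ := (mem_map_aut_iff hQT α).mp hy
      have hq : (q : Ω) ∈ (Q.subgroupOf
          ((P.subgroupOf T).map (T.subtype.comp (α⁻¹).toMonoidHom) ⊔ Q)).map ψ₀ := by
        rw [hψ₀Q]; exact q.2
      obtain ⟨z₁, hz₁, hz₁q⟩ := hq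
      have hz₁Q : (z₁ : Ω) ∈ Q := Subgroup.mem_subgroupOf.mp hz₁
      have hmem : ((α ⟨(z₁ : Ω), hQT hz₁Q⟩ : T) : Ω) ∈
          (Q.subgroupOf T).map (T.subtype.comp α.toMonoidHom) := mem_map_aut hQT α ⟨z₁, hz₁Q⟩
      refine ⟨⟨_, le_sup_right (a := P) hmem⟩, Subgroup.mem_subgroupOf.mpr hmem, ?_⟩
      show χ ⟨((α ⟨(z₁ : Ω), hQT hz₁Q⟩ : T) : Ω), _⟩ = ((α ⟨(q : Ω), hQT q.2⟩ : T) : Ω)
      have h3 := hχv z₁
      rw [hom_congr_val χ _ (mem_map_aut hPQT α z₁) rfl, h3]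
      have e6 : (⟨ψ₀ z₁, hψ₀T z₁⟩ : T) = ⟨(q : Ω), hQT q.2⟩ := Subtype.ext hz₁q
      exact congrArg (fun t : T => ((α t : T) : Ω)) e6

end Cfsg.Agent.Helper21.TRS
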