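import Mathlib
import Cfsg.Agent.Lib.TRS.TRSCoreA

/-! S5156 farm, piece TRS-COREB. -/

set_option autoImplicit false
open Cfsg

namespace Cfsg.Agent.Helper21.TRS

variable {Ω : Type*} [Group Ω] {S : Subgroup Ω}

/-- PIECE TRS-COREB. `O_p(E) = E.core` is invariant under `Aut_F(T)` for `E` invariant in `F`.
`E.core` is normal in `E` (`Cfsg.Agent.Helper25.isNormal_core`, needs `Finite T` from `T ≤ S`:
`hE.2.1.1`, `Cfsg.Agent.Helper25.finite_of_le_finite`), so its `α`-image is normal in `E`
(`isNormal_map_of_invariant`), hence `≤ E.core` (`le_sSup`). -/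
theorem core_invariant [Finite S] (F : FusionSystem S) {T : Subgroup Ω} (E : FusionSystem T)
    (hE : E.IsInvariantIn F) (α : MulAut T) (hα : α ∈ F.autGroup T) (x : T) (hx : (x : Ω) ∈ E.core) :
    ((α x : T) : Ω) ∈ E.core := by
  have hTS : T ≤ S := hE.2.1.1
  have hfin : Finite ↥T := Cfsg.Agent.Helper25.finite_of_le_finite hTS
  have hcore : E.IsNormal E.core := Cfsg.Agent.Helper25.isNormal_core E
  have hmap := isNormal_map_of_invariant F E hE hcore α hα
  have hle : (E.core.subgroupOf T).map (T.subtype.comp α.toMonoidHom) ≤ E.core := by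
    unfold FusionSystem.core
    exact le_sSup hmap
  apply hle
  exact ⟨x, Subgroup.mem_subgroupOf.2 hx, rfl⟩

end Cfsg.Agent.Helper21.TRS
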