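import Mathlib
import Cfsg.Agent.Lib.TRS.TRSDefs
import Cfsg.Agent.Lib.Helper25.FusionNormal
import Cfsg.Agent.Lib.Helper25.FusionNormal2

/-! S5156 farm, piece TRS-COREC. -/

set_option autoImplicit false
open Cfsg

namespace Cfsg.Agent.Helper21.TRS

variable {Ω : Type*} [Group Ω] {S : Subgroup Ω}

/-- PIECE TRS-COREC. A characteristic subgroup `C` of a subgroup `Q` normal in `F` is normal in `F`.
Given `φ ∈ F.Hom P`, extend to `ψ' ∈ F.Hom (P ⊔ Q)` with `ψ'(Q) = Q`; `ψ'` restricted to `Q` is an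
automorphism `β` of `Q` (injective — maps of a fusion system are injective — and onto `Q`), so `ψ'(C) = C` by
`hchar β`; restrict `ψ'` to `P ⊔ C ≤ P ⊔ Q` (`restrict_mem`). -/
theorem isNormal_of_characteristic [Finite S] (F : FusionSystem S) {Q C : Subgroup Ω} (hQ : F.IsNormal Q)
    (hCQ : C ≤ Q)
    (hchar : ∀ β : MulAut Q, ∀ x : Q, (x : Ω) ∈ C → ((β x : Q) : Ω) ∈ C) :
    F.IsNormal C := by
  refine ⟨hCQ.trans hQ.1, fun P φ hφ => ?_⟩
  obtain ⟨ψ, hψ, hext, himg⟩ := hQ.2 P φ hφ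
  have hQK : Q ≤ P ⊔ Q := le_sup_right
  have hmemQ : ∀ x : Q, ψ (Subgroup.inclusion hQK x) ∈ Q := by
    intro x
    have h1 : ψ (Subgroup.inclusion hQK x) ∈ (Q.subgroupOf (P ⊔ Q)).map ψ :=
      (Cfsg.Agent.Helper25.mem_map_subgroupOf ψ).mpr ⟨(x : Ω), hQK x.2, x.2, rfl⟩
    rwa [himg] at h1
  have hinj : Function.Injective ((ψ.comp (Subgroup.inclusion hQK)).codRestrict Q hmemQ) := by
    intro a b hab
    have h1 : ψ (Subgroup.inclusion hQK a) = ψ (Subgroup.inclusion hQK b) :=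
      congrArg Subtype.val hab
    exact Subgroup.inclusion_injective hQK (F.injective_of_mem hψ h1)
  have hsurj : Function.Surjective ((ψ.comp (Subgroup.inclusion hQK)).codRestrict Q hmemQ) := by
    intro y
    have h1 : (y : Ω) ∈ (Q.subgroupOf (P ⊔ Q)).map ψ := by
      rw [himg]
      exact y.2
    obtain ⟨x, hK, hxQ, hxy⟩ := (Cfsg.Agent.Helper25.mem_map_subgroupOf ψ).mp h1
    exact ⟨⟨x, hxQ⟩, Subtype.ext hxy⟩
  let β : MulAut Q := MulEquiv.ofBijective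
    ((ψ.comp (Subgroup.inclusion hQK)).codRestrict Q hmemQ) ⟨hinj, hsurj⟩
  have hβ : ∀ x : Q, ((β x : Q) : Ω) = ψ (Subgroup.inclusion hQK x) := fun x => rfl
  have hle : P ⊔ C ≤ P ⊔ Q := sup_le_sup_left hCQ P
  refine ⟨ψ.comp (Subgroup.inclusion hle), Cfsg.Agent.Helper25.restrict_mem F hle hψ,
    fun x => ?_, ?_⟩
  · have := hext x
    exact this
  · ext y
    rw [Cfsg.Agent.Helper25.mem_map_subgroupOf]
    constructor
    · rintro ⟨x, hK, hxC, rfl⟩
      have h1 := hchar β ⟨x, hCQ hxC⟩ hxC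
      rw [hβ] at h1
      exact h1
    · intro hy
      have hz : ((β.symm ⟨y, hCQ hy⟩ : Q) : Ω) ∈ C := hchar β.symm ⟨y, hCQ hy⟩ hy
      refine ⟨((β.symm ⟨y, hCQ hy⟩ : Q) : Ω), Subgroup.mem_sup_right hz, hz, ?_⟩
      have h2 : ((β (β.symm ⟨y, hCQ hy⟩) : Q) : Ω) = y := by
        rw [MulEquiv.apply_symm_apply]
      rw [hβ] at h2
      exact h2

end Cfsg.Agent.Helper21.TRS
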