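import Mathlib
import Cfsg.Agent.Lib.TRS.TRSDefs
import Cfsg.Agent.Lib.Helper25.FusionNormal2

/-! S5156 farm, piece TRS-CORED. -/

set_option autoImplicit false
open Cfsg

namespace Cfsg.Agent.Helper21.TRS

variable {Ω : Type*} [Group Ω] {S : Subgroup Ω}

/-- PIECE TRS-CORED (Frattini). For `E` (over `T`) invariant in `F`: a subgroup `X ≤ T` strongly closed in `E` and
invariant under `Aut_F(T)` is strongly closed in `F`. For `R ≤ X` and `φ ∈ F.Hom R`, the Frattini clause of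
`IsInvariantIn` (fourth clause, `R ≤ T`) writes `φ x = α (φ₀ x)` with `φ₀ ∈ E.Hom R`, `α ∈ Aut_F(T)`; `φ₀ x ∈ X`
(`hX.2`), then `α (φ₀ x) ∈ X` (`hinv`). -/
theorem stronglyClosed_of_invariant (F : FusionSystem S) {T : Subgroup Ω} (E : FusionSystem T)
    (hE : E.IsInvariantIn F) {X : Subgroup Ω} (hX : E.StronglyClosed X)
    (hinv : ∀ α ∈ F.autGroup T, ∀ x : T, (x : Ω) ∈ X → ((α x : T) : Ω) ∈ X) :
    F.StronglyClosed X := by
  refine ⟨hX.1.trans hE.2.1.1, fun R hR φ hφ x => ?_⟩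
  obtain ⟨α, hα, φ₀, hφ₀, h⟩ := hE.2.2.2 R (hR.trans hX.1) φ hφ
  have hx0 : φ₀ x ∈ X := hX.2 R hR φ₀ hφ₀ x
  rw [h x (hX.1 hx0)]
  exact hinv α hα ⟨φ₀ x, hX.1 hx0⟩ hx0

end Cfsg.Agent.Helper21.TRS
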