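import Mathlib
import Cfsg.Agent.Lib.TRS.TRSCoreB
import Cfsg.Agent.Lib.TRS.TRSCoreC
import Cfsg.Agent.Lib.TRS.TRSCoreD

/-! S5156 farm, piece TRS-COREE. -/

set_option autoImplicit false
open Cfsg

namespace Cfsg.Agent.Helper21.TRS

variable {Ω : Type*} [Group Ω] {S : Subgroup Ω}

/-- PIECE TRS-COREE. For `E` (over `T`) invariant in `F`, the terms `Z_k(O_p(E))` of the upper central series of
`Q := E.core` (pushed to `Ω`) are strongly closed in `F`.
`Q` is normal in `E` (`Cfsg.Agent.Helper25.isNormal_core`, `Finite T`), `upperCentralSeries ↥Q k` is a characteristic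
subgroup of `↥Q` (Mathlib instance `upperCentralSeries.instCharacteristic` / `Subgroup.Characteristic`;
`Subgroup.characteristic_iff_map_eq` etc.), so its image `D k` is normal in `E` by `isNormal_of_characteristic`, hence
strongly closed in `E` (`Cfsg.Agent.Helper25.stronglyClosed_of_isNormal`). `Aut_F(T)`-invariance: `α ∈ Aut_F(T)`
and `α⁻¹` map `Q` into `Q` (`core_invariant`), so `α` restricts to an automorphism `β` of `↥Q`
(`MulEquiv` built from `α`, `α⁻¹`), which preserves the characteristic subgroup. Conclude with
`stronglyClosed_of_invariant`. -/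
theorem stronglyClosed_upperCentralSeries_core [Finite S] (F : FusionSystem S) {T : Subgroup Ω}
    (E : FusionSystem T) (hE : E.IsInvariantIn F) (k : ℕ) :
    F.StronglyClosed ((upperCentralSeries ↥E.core k).map E.core.subtype) := by
  have hTS : T ≤ S := hE.2.1.1
  have : Finite ↥T := Cfsg.Agent.Helper25.finite_of_le_finite hTS
  have hQ : E.IsNormal E.core := Cfsg.Agent.Helper25.isNormal_core E
  have hQT : E.core ≤ T := hQ.1
  have hDQ : (upperCentralSeries ↥E.core k).map E.core.subtype ≤ E.core := by
    rintro _ ⟨y, -, rfl⟩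
    exact y.2
  -- membership in the image
  have hmemD : ∀ q : ↥E.core, (q : Ω) ∈ (upperCentralSeries ↥E.core k).map E.core.subtype ↔
      q ∈ upperCentralSeries ↥E.core k := by
    intro q
    constructor
    · rintro ⟨y, hy, hyq⟩
      have : y = q := Subtype.ext hyq
      rwa [← this]
    · intro hq
      exact ⟨q, hq, rfl⟩
  -- characteristic
  have hchar : ∀ β : MulAut ↥E.core, ∀ x : ↥E.core,
      (x : Ω) ∈ (upperCentralSeries ↥E.core k).map E.core.subtype →
        ((β x : ↥E.core) : Ω) ∈ (upperCentralSeries ↥E.core k).map E.core.subtype := by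
    intro β x hx
    rw [hmemD] at hx ⊢
    have hinst : (upperCentralSeries ↥E.core k).Characteristic := by
      show (Subgroup.upperCentralSeries ↥E.core k).Characteristic
      infer_instance
    have hfix := (Subgroup.characteristic_iff_comap_eq (H := upperCentralSeries ↥E.core k)).mp
      hinst β⁻¹
    have h1 : β x ∈ (upperCentralSeries ↥E.core k).comap (β⁻¹ : MulAut ↥E.core).toMonoidHom := by
      rw [Subgroup.mem_comap]
      show (β⁻¹ : MulAut ↥E.core) (β x) ∈ upperCentralSeries ↥E.core k
      rw [MulAut.inv_apply_self]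
      exact hx
    rwa [hfix] at h1
  have hDn : E.IsNormal ((upperCentralSeries ↥E.core k).map E.core.subtype) :=
    isNormal_of_characteristic E hQ hDQ hchar
  have hDsc : E.StronglyClosed ((upperCentralSeries ↥E.core k).map E.core.subtype) :=
    Cfsg.Agent.Helper25.stronglyClosed_of_isNormal E hDn
  refine stronglyClosed_of_invariant F E hE hDsc ?_
  intro α hα x hx
  have hα' : α⁻¹ ∈ F.autGroup T := inv_mem hα
  -- the automorphism of `E.core` induced by `α`
  let f : ↥E.core →* ↥E.core :=
    ((T.subtype.comp α.toMonoidHom).comp (Subgroup.inclusion hQT)).codRestrict E.core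
      (fun q => core_invariant F E hE α hα _ q.2)
  let g : ↥E.core →* ↥E.core :=
    ((T.subtype.comp (α⁻¹ : MulAut T).toMonoidHom).comp (Subgroup.inclusion hQT)).codRestrict E.core
      (fun q => core_invariant F E hE α⁻¹ hα' _ q.2)
  have hfg : ∀ q, f (g q) = q := by
    intro q
    apply Subtype.ext
    show ((α (Subgroup.inclusion hQT (g q)) : T) : Ω) = q
    have e : Subgroup.inclusion hQT (g q) = (α⁻¹ : MulAut T) (Subgroup.inclusion hQT q) :=
      Subtype.ext rfl
    rw [e, MulAut.apply_inv_self]
    rfl
  have hgf : ∀ q, g (f q) = q := by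
    intro q
    apply Subtype.ext
    show (((α⁻¹ : MulAut T) (Subgroup.inclusion hQT (f q)) : T) : Ω) = q
    have e : Subgroup.inclusion hQT (f q) = α (Subgroup.inclusion hQT q) :=
      Subtype.ext rfl
    rw [e, MulAut.inv_apply_self]
    rfl
  let β : MulAut ↥E.core :=
    { toFun := f
      invFun := g
      left_inv := hgf
      right_inv := hfg
      map_mul' := f.map_mul }
  have hxQ : (x : Ω) ∈ E.core := hDQ hx
  have h2 := hchar β ⟨(x : Ω), hxQ⟩ hx
  exact h2

end Cfsg.Agent.Helper21.TRS
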