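import Mathlib
import Cfsg.Agent.Lib.TRS.TRSDefs
import Cfsg.Agent.S5088

/-! S5156 farm, piece TRS-SER. -/

set_option autoImplicit false
open Cfsg

namespace Cfsg.Agent.Helper21.TRS

variable {Ω : Type*} [Group Ω] {S : Subgroup Ω}

/-- PIECE TRS-SER (a). `ℕ`-indexed form of `S5088` (`←`): take `Qs i := D i` in `Cfsg.Agent.S5088.result`. -/
theorem isNormal_of_series_nat [Finite S] (p : ℕ) [Fact p.Prime] (hS : IsPGroup p S)
    (F : FusionSystem S) (hF : F.IsSaturated p) {Q : Subgroup Ω} (n : ℕ) (D : ℕ → Subgroup Ω)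
    (h0 : D 0 = ⊥) (hn : D n = Q) (hmono : ∀ k, k < n → D k ≤ D (k + 1))
    (hsc : ∀ k, k < n → F.StronglyClosed (D (k + 1)))
    (hcomm : ∀ k, k < n → ⁅Q, D (k + 1)⁆ ≤ D k) : F.IsNormal Q := by
  refine (Cfsg.Agent.S5088.result p hS F hF Q).mpr ⟨n, fun i => D (i : ℕ), ?_, ?_, ?_, ?_⟩
  · show D ((0 : Fin (n + 1)) : ℕ) = ⊥
    rw [Fin.val_zero]; exact h0
  · show D ((Fin.last n : Fin (n + 1)) : ℕ) = Q
    rw [Fin.val_last]; exact hn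
  · refine Fin.monotone_iff_le_succ.mpr (fun i => ?_)
    show D ((Fin.castSucc i : Fin (n + 1)) : ℕ) ≤ D ((i.succ : Fin (n + 1)) : ℕ)
    rw [Fin.val_castSucc, Fin.val_succ]
    exact hmono i i.2
  · intro i
    show F.StronglyClosed (D ((i.succ : Fin (n + 1)) : ℕ)) ∧
      ⁅Q, D ((i.succ : Fin (n + 1)) : ℕ)⁆ ≤ D ((Fin.castSucc i : Fin (n + 1)) : ℕ)
    rw [Fin.val_castSucc, Fin.val_succ]
    exact ⟨hsc i i.2, hcomm i i.2⟩

/-- PIECE TRS-SER (b). `ℕ`-indexed form of `S5088` (`→`): from the `Fin (n+1)`-indexed series `Qs` take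
`D k := if h : k < n + 1 then Qs ⟨k, h⟩ else Q`. -/
theorem exists_series_nat [Finite S] (p : ℕ) [Fact p.Prime] (hS : IsPGroup p S)
    (F : FusionSystem S) (hF : F.IsSaturated p) {Q : Subgroup Ω} (hQ : F.IsNormal Q) :
    ∃ (n : ℕ) (D : ℕ → Subgroup Ω), D 0 = ⊥ ∧ D n = Q ∧ (∀ k, k < n → D k ≤ D (k + 1)) ∧
      (∀ k, k < n → F.StronglyClosed (D (k + 1))) ∧ ∀ k, k < n → ⁅Q, D (k + 1)⁆ ≤ D k := by
  obtain ⟨n, Qs, h0, hlast, hmono, hstep⟩ := (Cfsg.Agent.S5088.result p hS F hF Q).mp hQ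
  have hD : ∀ k (h : k < n + 1), (fun k : ℕ => if h : k < n + 1 then Qs ⟨k, h⟩ else Q) k =
      Qs ⟨k, h⟩ := fun k h => dif_pos h
  refine ⟨n, fun k => if h : k < n + 1 then Qs ⟨k, h⟩ else Q, ?_, ?_, ?_, ?_, ?_⟩
  · rw [hD 0 (Nat.succ_pos n)]
    exact h0
  · rw [hD n (Nat.lt_succ_self n)]
    exact hlast
  · intro k hk
    rw [hD k (Nat.lt_succ_of_lt hk), hD (k + 1) (Nat.succ_lt_succ hk)]
    exact hmono (Fin.mk_le_mk.mpr (Nat.le_succ k))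
  · intro k hk
    rw [hD (k + 1) (Nat.succ_lt_succ hk)]
    exact (hstep ⟨k, hk⟩).1
  · intro k hk
    rw [hD k (Nat.lt_succ_of_lt hk), hD (k + 1) (Nat.succ_lt_succ hk)]
    exact (hstep ⟨k, hk⟩).2

end Cfsg.Agent.Helper21.TRS
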