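import Mathlib
import Cfsg.Agent.Lib.TRS.TRSCoreE
import Cfsg.Agent.Lib.TRS.TRSSer

/-! S5156 farm, piece TRS-CORE. -/

set_option autoImplicit false
open Cfsg

namespace Cfsg.Agent.Helper21.TRS

variable {Ω : Type*} [Group Ω] {S : Subgroup Ω}

/-- PIECE TRS-CORE. `O_p(E)` is normal in `F` for `E` normal in `F`.
`hinv := hE.1.2.2 : E.IsInvariantIn F`, `hFsat := hE.1.2.1`. `Q := E.core ≤ T ≤ S` is a finite `p`-group, so nilpotent
(`IsPGroup.isNilpotent`): `upperCentralSeries ↥Q n = ⊤` for some `n`. Apply `isNormal_of_series_nat p hS F hFsat n D`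
with `D k := (upperCentralSeries ↥Q k).map Q.subtype`: `D 0 = ⊥` (`upperCentralSeries_zero`, `Subgroup.map_bot`),
`D n = Q` (`Subgroup.map_top`-style: `← MonoidHom.range_eq_map`, `Subgroup.range_subtype`), monotone
(`upperCentralSeries_mono`), strongly closed in `F` (`stronglyClosed_upperCentralSeries_core`), and
`⁅Q, D (k+1)⁆ ≤ D k` from `mem_upperCentralSeries_succ_iff` (`x ∈ Z_{k+1} ↔ ∀ y, x * y * x⁻¹ * y⁻¹ ∈ Z_k`;
use `Subgroup.commutator_le` and `Subgroup.commutator_comm`). -/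
theorem isNormal_core_of_isNormalIn [Finite S] (p : ℕ) [Fact p.Prime] (hS : IsPGroup p S)
    (F : FusionSystem S) {T : Subgroup Ω} (E : FusionSystem T) (hE : E.IsNormalIn F p) :
    F.IsNormal E.core := by
  have hinv : E.IsInvariantIn F := hE.1.2.2
  have hFsat : F.IsSaturated p := hE.1.2.1
  have hTS : T ≤ S := hinv.2.1.1
  have hQT : E.core ≤ T := sSup_le fun Q hQ => hQ.1
  have hQS : E.core ≤ S := hQT.trans hTS
  have : Finite ↥E.core :=
    Finite.of_injective (Subgroup.inclusion hQS) (Subgroup.inclusion_injective hQS)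
  have hQp : IsPGroup p ↥E.core :=
    hS.of_injective (Subgroup.inclusion hQS) (Subgroup.inclusion_injective hQS)
  have : Group.IsNilpotent ↥E.core := hQp.isNilpotent
  obtain ⟨n, hn⟩ := Group.IsNilpotent.nilpotent ↥E.core
  refine isNormal_of_series_nat p hS F hFsat n
    (fun k => (Subgroup.upperCentralSeries ↥E.core k).map E.core.subtype) ?_ ?_ ?_ ?_ ?_
  · show (Subgroup.upperCentralSeries ↥E.core 0).map E.core.subtype = ⊥
    rw [Subgroup.upperCentralSeries_zero, Subgroup.map_bot]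
  · show (Subgroup.upperCentralSeries ↥E.core n).map E.core.subtype = E.core
    rw [hn, ← MonoidHom.range_eq_map, Subgroup.range_subtype]
  · intro k _
    exact Subgroup.map_mono (Subgroup.upperCentralSeries_mono _ (Nat.le_succ k))
  · intro k _
    exact stronglyClosed_upperCentralSeries_core F E hinv (k + 1)
  · intro k _
    show ⁅E.core, (Subgroup.upperCentralSeries ↥E.core (k + 1)).map E.core.subtype⁆ ≤
      (Subgroup.upperCentralSeries ↥E.core k).map E.core.subtype
    rw [Subgroup.commutator_le]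
    intro g₁ hg₁ g₂ hg₂
    obtain ⟨z, hz, rfl⟩ := Subgroup.mem_map.mp hg₂
    have h1 := (Subgroup.mem_upperCentralSeries_succ_iff).mp hz ⟨g₁, hg₁⟩
    refine Subgroup.mem_map.mpr ⟨(z * ⟨g₁, hg₁⟩ * z⁻¹ * (⟨g₁, hg₁⟩ : ↥E.core)⁻¹)⁻¹,
      Subgroup.inv_mem _ h1, ?_⟩
    simp only [commutatorElement_def, Subgroup.subtype_apply, Subgroup.coe_inv, Subgroup.coe_mul,
      mul_inv_rev, inv_inv]
    group

end Cfsg.Agent.Helper21.TRS
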