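import Mathlib
import Cfsg.Agent.Lib.TRS.TRSDefs
import Cfsg.Agent.Lib.Helper25.FusionNormal2
import Cfsg.Agent.Lib.Helper25.FusionProduct3

/-! S5156 farm, piece TRS-RES. -/

set_option autoImplicit false
open Cfsg

namespace Cfsg.Agent.Helper21.TRS

open Cfsg.FusionSystem Cfsg.Agent.Helper25

variable {Ω : Type*} [Group Ω] {S : Subgroup Ω}

/-- the restriction of `α ∈ Aut_F(Q)` to the strongly closed `R ≤ Q` -/
theorem trsres_ex (F : FusionSystem S) {Q R : Subgroup Ω} (hQS : Q ≤ S)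
    (hR : F.StronglyClosed R) (hRQ : R ≤ Q) (α : ↥(F.autGroup Q)) :
    ∃ κ : MulAut R, κ ∈ F.autGroup R ∧ ∀ x : R, ((κ x : R) : Ω)
      = ((((α : ↥(F.autGroup Q)) : MulAut Q) ⟨x, hRQ x.2⟩ : Q) : Ω) := by
  obtain ⟨κ, hκ⟩ := exists_restrict_aut hRQ (α : MulAut Q)
    (map_aut_eq_of_stronglyClosed F hR hQS hRQ α.2)
  have hval : ∀ x : R, ((κ x : R) : Ω) = (((α : MulAut Q) ⟨x, hRQ x.2⟩ : Q) : Ω) := by
    intro x
    have h1 := congrArg (fun z : Q => (z : Ω)) (hκ x)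
    exact h1.symm
  refine ⟨κ, ?_, hval⟩
  rw [mem_autGroup_iff F (hRQ.trans hQS)]
  have hαF := (mem_autGroup_iff F hQS (α : MulAut Q)).mp α.2
  have e : R.subtype.comp κ.toMonoidHom
      = (Q.subtype.comp (α : MulAut Q).toMonoidHom).comp (Subgroup.inclusion hRQ) := by
    ext x
    exact hval x
  rw [e]
  exact restrict_mem F hRQ hαF

/-- PIECE TRS-RES. Restriction `Aut_F(Q) → Aut_F(R)` for `Q` normal in `F` and `R ≤ Q` strongly closed: it is a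
surjective homomorphism. Well defined: `α ∈ Aut_F(Q)` maps `R` into `R` (`hR.2`) and so does `α⁻¹`; the
restriction is in `Aut_F(R)` (`restrict_mem`, `mem_autGroup_iff`). Surjective: `β ∈ Aut_F(R)` is a map in
`F.Hom R`; by `hQ.2` it extends to `ψ ∈ F.Hom (R ⊔ Q)` with `ψ(Q) = Q`; `R ⊔ Q = Q`, so `ψ` restricted to `Q`
is an automorphism of `Q` in `F` restricting to `β`. -/
theorem exists_resHom [Finite S] (F : FusionSystem S) {Q R : Subgroup Ω} (hQ : F.IsNormal Q)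
    (hR : F.StronglyClosed R) (hRQ : R ≤ Q) :
    ∃ ρ : ↥(F.autGroup Q) →* ↥(F.autGroup R), Function.Surjective ρ ∧
      ∀ (α : ↥(F.autGroup Q)) (x : R),
        ((((ρ α : ↥(F.autGroup R)) : MulAut R) x : R) : Ω)
          = ((((α : ↥(F.autGroup Q)) : MulAut Q) ⟨x, hRQ x.2⟩ : Q) : Ω) := by
  classical
  have hQS : Q ≤ S := hQ.1
  have hRS : R ≤ S := hRQ.trans hQS
  obtain ⟨f, hf⟩ : ∃ f : ↥(F.autGroup Q) → ↥(F.autGroup R),
      ∀ (α : ↥(F.autGroup Q)) (x : R), ((((f α : ↥(F.autGroup R)) : MulAut R) x : R) : Ω)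
        = ((((α : ↥(F.autGroup Q)) : MulAut Q) ⟨x, hRQ x.2⟩ : Q) : Ω) :=
    ⟨fun α => ⟨Classical.choose (trsres_ex F hQS hR hRQ α),
        (Classical.choose_spec (trsres_ex F hQS hR hRQ α)).1⟩,
      fun α => (Classical.choose_spec (trsres_ex F hQS hR hRQ α)).2⟩
  have hext : ∀ a b : ↥(F.autGroup R),
      (∀ x : R, (((a : MulAut R) x : R) : Ω) = (((b : MulAut R) x : R) : Ω)) → a = b := by
    intro a b hab
    apply Subtype.ext
    apply MulEquiv.ext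
    intro x
    exact Subtype.ext (hab x)
  have hone : f 1 = 1 := by
    apply hext
    intro x
    rw [hf]
    rfl
  have hmul : ∀ a b : ↥(F.autGroup Q), f (a * b) = f a * f b := by
    intro a b
    apply hext
    intro x
    rw [hf]
    show ((((a : MulAut Q) ((b : MulAut Q) ⟨x, hRQ x.2⟩)) : Q) : Ω)
      = ((((f a : ↥(F.autGroup R)) : MulAut R) (((f b : ↥(F.autGroup R)) : MulAut R) x) : R) : Ω)
    rw [hf a]
    have e : (⟨((((f b : ↥(F.autGroup R)) : MulAut R) x : R) : Ω),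
        hRQ (((f b : ↥(F.autGroup R)) : MulAut R) x).2⟩ : Q)
        = (b : MulAut Q) ⟨x, hRQ x.2⟩ := Subtype.ext (hf b x)
    rw [e]
  refine ⟨{ toFun := f, map_one' := hone, map_mul' := hmul }, ?_, hf⟩
  -- surjective
  intro β
  have hφ : R.subtype.comp (β : MulAut R).toMonoidHom ∈ F.Hom R :=
    (mem_autGroup_iff F hRS _).mp β.2
  obtain ⟨ψ, hψ, hψR, himg⟩ := hQ.2 R _ hφ
  have hψQ : ψ.comp (Subgroup.inclusion (le_sup_right : Q ≤ R ⊔ Q)) ∈ F.Hom Q :=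
    restrict_mem F le_sup_right hψ
  have hval : ∀ q : Q, (ψ.comp (Subgroup.inclusion (le_sup_right : Q ≤ R ⊔ Q))) q ∈ Q := by
    intro q
    have h1 : ψ (Subgroup.inclusion le_sup_right q) ∈ (Q.subgroupOf (R ⊔ Q)).map ψ :=
      ⟨Subgroup.inclusion le_sup_right q, Subgroup.mem_subgroupOf.mpr q.2, rfl⟩
    rw [himg] at h1
    exact h1
  obtain ⟨α, hα, hαψ⟩ := exists_aut_of_hom F hψQ hval
  refine ⟨⟨α, hα⟩, ?_⟩
  apply hext
  intro x
  show ((((f ⟨α, hα⟩ : ↥(F.autGroup R)) : MulAut R) x : R) : Ω) = _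
  rw [hf ⟨α, hα⟩ x]
  show ((α ⟨x, hRQ x.2⟩ : Q) : Ω) = _
  rw [hαψ]
  have e : Subgroup.inclusion (le_sup_right : Q ≤ R ⊔ Q) ⟨(x : Ω), hRQ x.2⟩
      = Subgroup.inclusion (le_sup_left : R ≤ R ⊔ Q) x := Subtype.ext rfl
  show ψ (Subgroup.inclusion le_sup_right ⟨(x : Ω), hRQ x.2⟩) = _
  rw [e, hψR]
  rfl

end Cfsg.Agent.Helper21.TRS
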