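import Mathlib
import Cfsg.Agent.Lib.TRS.TRSCore
import Cfsg.Agent.Lib.TRS.TRSRes
import Cfsg.Agent.S5342
import Cfsg.Agent.Lib.CSE.CSEBasic
import Cfsg.Agent.Lib.Helper23.PSolvable

/-! S5156 farm: `PP` passes to normal subsystems. -/

set_option autoImplicit false
open Cfsg

namespace Cfsg.Agent.Helper21.TRS

variable {Ω : Type*} [Group Ω] {S : Subgroup Ω}

theorem pp_of_isNormalIn [Finite S] (p : ℕ) [Fact p.Prime] (hS : IsPGroup p S)
    (F : FusionSystem S) (hPP : PP p F) {T : Subgroup Ω} (E : FusionSystem T)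
    (hE : E.IsNormalIn F p) : PP p E := by
  have hTS : T ≤ S := hE.1.2.2.2.1.1
  have hEF : E.IsSubsystemOf F := hE.1.2.2.1
  haveI : Finite T := Cfsg.Agent.Helper25.finite_of_le_finite hTS
  have hcon : E.IsConstrained p :=
    Cfsg.Agent.S5342.result p hS F hPP.1 E
      (FusionSystem.IsSubnormalIn.step (FusionSystem.IsSubnormalIn.refl E p) hE)
  refine ⟨hcon, ?_⟩
  have hQn : F.IsNormal E.core := isNormal_core_of_isNormalIn p hS F E hE
  have hQT : E.core ≤ T := (Cfsg.Agent.Helper25.isNormal_core E).1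
  have hle : E.core ≤ F.core := le_sSup hQn
  obtain ⟨ρ, hρs, -⟩ := exists_resHom F (Cfsg.Agent.Helper25.isNormal_core F)
    (Cfsg.Agent.Helper25.stronglyClosed_of_isNormal F hQn) hle
  have h1 : IsPSolvable p ↥(F.autGroup E.core) :=
    Cfsg.Agent.Helper23.PSolv.isPSolvable_of_surjective ρ hρs hPP.2
  have h2 : E.autGroup E.core ≤ F.autGroup E.core :=
    Cfsg.Agent.Helper3.CSE.autGroup_le_of_subsystem E F hEF hTS hQT
  exact Cfsg.Agent.Helper23.PSolv.isPSolvable_of_injective (Subgroup.inclusion h2)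
    (Subgroup.inclusion_injective h2) h1

end Cfsg.Agent.Helper21.TRS
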