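import Mathlib
import Cfsg.Agent.Lib.TRS.TRSDefs
import Cfsg.Agent.Lib.Helper21.RealSys

/-! S5156 farm, piece TRS-L3A. -/

set_option autoImplicit false
open Cfsg Cfsg.Agent.Helper21.RealSys

namespace Cfsg.Agent.Helper21.TRS

variable {Ω : Type*} [Group Ω] {S : Subgroup Ω} {G : Type*} [Group G]

/-- PIECE TRS-L3A. If `F` is realized by `ι : S →* G` (`G` finite) and `H ≤ G` contains every `p`-element of `G` (and
`ι(S)`; `ι'` is `ι` with codomain restricted to `H`), then the system of `H` on `S` has index prime to `p` in `F`.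
Subsystem: a map of `realSys ι'` is conjugation by some `n : H`, hence by `(n : G)`, so it is in `F` (`hreal.2`).
Index: let `α ∈ Aut_F(P)` have order `p ^ k`. By `hreal.2` (`mem_autGroup_iff`) `α` is induced by conjugation by some
`g : G`. Let `orderOf g = p ^ e * m` with `p ∤ m` and pick `a` with `a ≡ 1 [MOD p ^ k]`, `a ≡ 0 [MOD m]`
(`Nat.chineseRemainder`, coprime). Conjugation by `g ^ a` induces `α ^ a = α`, and `(g ^ a) ^ (p ^ e) = 1`, so `g ^ a` is
a `p`-element, `g ^ a ∈ H`; hence `α ∈ Aut_{realSys ι'}(P)` (`mem_autGroup_iff`, `mem_realSys`). The subgroup generated by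
the `p`-elements of `Aut_F(P)` is then inside `(realSys ι' hinj).autGroup P` (`Subgroup.map_le_iff_le_comap`,
`Subgroup.closure_le`). -/
theorem realSys_sub_primeToP [Finite G] (p : ℕ) [Fact p.Prime] (F : FusionSystem S) {ι : S →* G}
    (hreal : F.IsRealizedBy ι) (H : Subgroup G)
    (hH : ∀ g : G, (∃ k : ℕ, orderOf g = p ^ k) → g ∈ H) (ι' : S →* H)
    (hι' : ∀ s, ((ι' s : H) : G) = ι s) (hinj : Function.Injective ι') :
    (realSys ι' hinj).HasPrimeToPIndexIn F p := by
  have hp : p.Prime := Fact.out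
  refine ⟨?_, ?_⟩
  · -- subsystem
    rintro P φ ⟨hP, hφS, n, hn⟩
    refine (hreal.2 P hP φ hφS).mpr ⟨(n : G), fun x => ?_⟩
    have h1 := congrArg Subtype.val (hn x (hP x.2) (hφS x))
    rw [hι'] at h1
    rw [h1, Subgroup.coe_mul, Subgroup.coe_mul, Subgroup.coe_inv, hι']
  · intro P hP
    rw [Subgroup.map_le_iff_le_comap, Subgroup.closure_le]
    rintro ⟨α, hα⟩ ⟨k, hk⟩
    show α ∈ (realSys ι' hinj).autGroup P
    have hk' : orderOf α = p ^ k := by
      rw [← hk]
      exact (Subgroup.orderOf_mk α hα).symm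
    rw [Cfsg.Agent.Helper25.mem_autGroup_iff (realSys ι' hinj) hP α]
    have hαF : P.subtype.comp α.toMonoidHom ∈ F.Hom P :=
      (Cfsg.Agent.Helper25.mem_autGroup_iff F hP α).mp hα
    have hφS : ∀ x : P, (P.subtype.comp α.toMonoidHom) x ∈ S := fun x => hP (α x).2
    obtain ⟨g, hg⟩ := (hreal.2 P hP _ hφS).mp hαF
    -- powers
    have hpow : ∀ (j : ℕ) (x : P),
        ι ⟨(((α ^ j : MulAut P) x : P) : Ω), hP ((α ^ j : MulAut P) x).2⟩ =
          g ^ j * ι ⟨(x : Ω), hP x.2⟩ * (g ^ j)⁻¹ := by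
      intro j
      induction j with
      | zero =>
        intro x
        simp
      | succ j ih =>
        intro x
        have e : ((α ^ (j + 1) : MulAut P) x) = (α ^ j : MulAut P) (α x) := by
          rw [pow_succ, MulAut.mul_apply]
        have h1 := ih (α x)
        have h2 := hg x
        have h2' : ι ⟨((α x : P) : Ω), hP (α x).2⟩ = g * ι ⟨(x : Ω), hP x.2⟩ * g⁻¹ := h2
        have e' : (⟨(((α ^ (j + 1) : MulAut P) x : P) : Ω), hP ((α ^ (j + 1) : MulAut P) x).2⟩ : S) =
            ⟨(((α ^ j : MulAut P) (α x) : P) : Ω), hP ((α ^ j : MulAut P) (α x)).2⟩ :=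
          Subtype.ext (congrArg (fun y : P => (y : Ω)) e)
        rw [e', h1, h2', pow_succ, mul_inv_rev]
        simp only [mul_assoc]
    -- the CRT exponent
    have hN0 : orderOf g ≠ 0 := (orderOf_pos g).ne'
    have hco : Nat.Coprime (p ^ k) (orderOf g / p ^ (orderOf g).factorization p) :=
      Nat.Coprime.pow_left k (Nat.coprime_ordCompl hp hN0)
    obtain ⟨a, ha1, ha0⟩ := Nat.chineseRemainder hco 1 0
    have hαa : α ^ a = α := by
      have h1 : α ^ a = α ^ 1 := by
        rw [pow_eq_pow_iff_modEq, hk']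
        exact ha1
      rw [h1, pow_one]
    have hdvd : orderOf g ∣ a * p ^ (orderOf g).factorization p := by
      have h1 : orderOf g / p ^ (orderOf g).factorization p ∣ a :=
        (Nat.modEq_zero_iff_dvd).mp ha0
      have h2 := Nat.ordProj_mul_ordCompl_eq_self (orderOf g) p
      calc orderOf g = p ^ (orderOf g).factorization p *
            (orderOf g / p ^ (orderOf g).factorization p) := h2.symm
        _ ∣ p ^ (orderOf g).factorization p * a := Nat.mul_dvd_mul_left _ h1
        _ = a * p ^ (orderOf g).factorization p := Nat.mul_comm _ _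
    have hga : (g ^ a) ^ (p ^ (orderOf g).factorization p) = 1 := by
      rw [← pow_mul]
      exact orderOf_dvd_iff_pow_eq_one.mp hdvd
    have hord : ∃ k' : ℕ, orderOf (g ^ a) = p ^ k' := by
      have h1 : orderOf (g ^ a) ∣ p ^ (orderOf g).factorization p := orderOf_dvd_of_pow_eq_one hga
      obtain ⟨k', -, hk''⟩ := (Nat.dvd_prime_pow hp).mp h1
      exact ⟨k', hk''⟩
    have hmem : g ^ a ∈ H := hH _ hord
    rw [mem_realSys]
    refine ⟨hP, hφS, ⟨g ^ a, hmem⟩, fun x h1 h2 => ?_⟩
    apply Subtype.ext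
    rw [Subgroup.coe_mul, Subgroup.coe_mul, Subgroup.coe_inv, hι', hι']
    have h3 := hpow a x
    rw [hαa] at h3
    exact h3

end Cfsg.Agent.Helper21.TRS
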