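import Mathlib
import Cfsg.Agent.Lib.TRS.TRSDefs

/-! S5156 farm, piece TRS-L3G. -/

set_option autoImplicit false
open Cfsg

namespace Cfsg.Agent.Helper21.TRS

/-- PIECE TRS-L3G. A nontrivial finite `p`-solvable group generated by its `p`-elements has a proper normal subgroup of
`p`-power index. From the chain `H 0 = ⊥ ≤ … ≤ H n = ⊤` (all normal) take the largest `i` with `H i ≠ ⊤`
(`H 0 = ⊥ ≠ ⊤` as the group is nontrivial; e.g. `Nat.find`/induction on `n - i`); then `H (i+1) = ⊤` and
`(H i).relIndex ⊤ = (H i).index` is a power of `p` or prime to `p`. If it is prime to `p`, every `p`-element `g` lies in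
`H i` (the order of its image in the quotient divides both `p ^ k` and the index), so `opp p H ≤ H i`
(`Subgroup.closure_le`), contradicting `H i ≠ ⊤`. -/
theorem exists_normal_pPower_index {H : Type*} [Group H] [Finite H] {p : ℕ} [Fact p.Prime]
    (hsol : IsPSolvable p H) [Nontrivial H] (hgen : opp p H = ⊤) :
    ∃ N : Subgroup H, N.Normal ∧ N ≠ ⊤ ∧ ∃ k : ℕ, N.index = p ^ k := by
  obtain ⟨n, Hc, h0, hn, hmono, hnorm, hfac⟩ := hsol
  have hex : ∃ i : Fin n, Hc i.castSucc ≠ ⊤ ∧ Hc i.succ = ⊤ := by
    by_contra hcon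
    have hall : ∀ i : Fin (n + 1), Hc i = ⊤ := by
      intro i
      induction i using Fin.reverseInduction with
      | last => exact hn
      | cast i ih =>
        by_contra h
        exact hcon ⟨i, h, ih⟩
    have hbt : (⊥ : Subgroup H) = ⊤ := by
      rw [← h0]
      exact hall 0
    exact bot_ne_top hbt
  obtain ⟨i, hne, htop⟩ := hex
  have hN : (Hc i.castSucc).Normal := hnorm i.castSucc
  have hidx : (Hc i.castSucc).relIndex (Hc i.succ) = (Hc i.castSucc).index := by
    rw [htop, Subgroup.relIndex_top_right]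
  rcases hfac i with ⟨m, hm⟩ | hcop
  · exact ⟨Hc i.castSucc, hN, hne, m, by rw [← hidx, hm]⟩
  · exfalso
    rw [hidx] at hcop
    have hle : opp p H ≤ Hc i.castSucc := by
      unfold opp
      rw [Subgroup.closure_le]
      rintro g ⟨k, hk⟩
      have h1 : orderOf (QuotientGroup.mk' (Hc i.castSucc) g) ∣ p ^ k := by
        rw [← hk]
        exact orderOf_map_dvd _ g
      have h2 : orderOf (QuotientGroup.mk' (Hc i.castSucc) g) ∣ (Hc i.castSucc).index := by
        rw [Subgroup.index_eq_card]
        exact orderOf_dvd_natCard _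
      have hc : Nat.gcd (p ^ k) (Hc i.castSucc).index = 1 :=
        Nat.Coprime.pow_left k hcop.symm
      have h3 : orderOf (QuotientGroup.mk' (Hc i.castSucc) g) = 1 := by
        have h4 := Nat.dvd_gcd h1 h2
        rw [hc] at h4
        exact Nat.dvd_one.mp h4
      rw [orderOf_eq_one_iff] at h3
      exact (QuotientGroup.eq_one_iff g).mp h3
    rw [hgen] at hle
    exact hne (top_unique hle)

end Cfsg.Agent.Helper21.TRS
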