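import Mathlib
import Cfsg.Agent.Lib.TRS.TRSDefs
import Cfsg.Agent.Lib.Helper21.RealSys
import Cfsg.Agent.Lib.Helper26.HyperfocalKernel
import Cfsg.Agent.Lib.Helper25.FusionNormal3

/-! S5156 farm, piece TRS-L3H. -/

set_option autoImplicit false
open Cfsg Cfsg.Agent.Helper21.RealSys

namespace Cfsg.Agent.Helper21.TRS

variable {Ω : Type*} [Group Ω] {S : Subgroup Ω} {H : Type*} [Group H]

/-- PIECE TRS-L3H. For the system of the finite group `H` on its Sylow `p`-subgroup `S` (through `ι'`) and a normal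
subgroup `N` of `p`-power index: the hyperfocal subgroup lies in `N` (the easy half of the hyperfocal subgroup theorem).
Apply `Cfsg.Agent.Helper26.hyperfocal_le_ker p hS (realSys ι' hinj) hsat (T := ⊥) (stronglyClosed_bot _)` with
`c := (QuotientGroup.mk' N).comp ι' : S →* H ⧸ N`; `H ⧸ N` has order `p ^ k` (`Subgroup.index_eq_card`), so every
element has `p`-power order (`pow_card_eq_one'`); `hcT`: `t ∈ ⊥` gives `t = 1`; `hbig`: `α ∈ (realSys ι' hinj).autGroup P`
gives (`mem_autGroup_iff`, `mem_realSys`) some `n : H` with `ι' (α x) = n * ι' x * n⁻¹`, take `a := mk n`. The conclusion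
`hyp ≤ c.ker.map S.subtype` unfolds to the claim (`QuotientGroup.eq_one_iff`). -/
theorem hyperfocal_realSys_le [Finite S] [Finite H] (p : ℕ) [Fact p.Prime] (hS : IsPGroup p S)
    (ι' : S →* H) (hinj : Function.Injective ι') (hsat : (realSys ι' hinj).IsSaturated p)
    (N : Subgroup H) [N.Normal] (hN : ∃ k : ℕ, N.index = p ^ k) :
    ∀ (x : Ω) (hx : x ∈ S), x ∈ (realSys ι' hinj).hyperfocalSubgroup p → ι' ⟨x, hx⟩ ∈ N := by
  obtain ⟨k, hk⟩ := hN
  have hbot : (realSys ι' hinj).StronglyClosed (⊥ : Subgroup Ω) := by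
    refine ⟨bot_le, fun R hR φ _ x => ?_⟩
    have hx : x = 1 := Subtype.ext (by have := hR x.2; rwa [Subgroup.mem_bot] at this)
    rw [hx, map_one]; exact Subgroup.one_mem _
  have hG : ∀ g : H ⧸ N, ∃ m : ℕ, g ^ (p ^ m) = 1 := by
    intro g
    refine ⟨k, ?_⟩
    have hcard : Nat.card (H ⧸ N) = p ^ k := by rw [← Subgroup.index_eq_card, hk]
    rw [← hcard]
    exact pow_card_eq_one'
  have key := Cfsg.Agent.Helper26.hyperfocal_le_ker p hS (realSys ι' hinj) hsat hbot hG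
    ((QuotientGroup.mk' N).comp ι')
    (by
      intro t ht
      have : (⟨t, hbot.1 ht⟩ : S) = 1 := Subtype.ext (Subgroup.mem_bot.1 ht)
      rw [this, map_one])
    (by
      intro P hPS _ α hα
      rw [Cfsg.Agent.Helper25.mem_autGroup_iff _ hPS] at hα
      obtain ⟨-, hφS, n, hn⟩ := mem_realSys.1 hα
      refine ⟨QuotientGroup.mk' N n, fun x => ?_⟩
      have h2 : ι' ⟨((α x : P) : Ω), hPS (α x).2⟩ = n * ι' ⟨x, hPS x.2⟩ * n⁻¹ :=
        hn x (hPS x.2) (hφS x)
      show (QuotientGroup.mk' N) (ι' ⟨((α x : P) : Ω), hPS (α x).2⟩) = _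
      rw [h2, map_mul, map_mul, map_inv]
      rfl)
  intro x hx hxh
  obtain ⟨s, hs, hsx⟩ := key hxh
  have hsx' : s = ⟨x, hx⟩ := Subtype.ext hsx
  rw [hsx'] at hs
  have h3 : (QuotientGroup.mk' N) (ι' ⟨x, hx⟩) = 1 := hs
  exact (QuotientGroup.eq_one_iff _).1 h3

end Cfsg.Agent.Helper21.TRS
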