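import Mathlib
import Cfsg.Agent.Lib.TRS.TRSDefs

/-! S5156 farm, piece TRS-L3S. -/

set_option autoImplicit false
open Cfsg

namespace Cfsg.Agent.Helper21.TRS

variable {S G : Type*} [Group S] [Group G]

/-- PIECE TRS-L3S. A Sylow `p`-subgroup `ι(S)` of `G` lying in `H` is a Sylow `p`-subgroup of `H`:
`R' := R.subtype (hR ▸ hH)` (`Sylow.subtype`, `Sylow.coe_subtype : ↑(R.subtype h) = (↑R).subgroupOf H`), and
`ι.range.subgroupOf H = ι'.range` by `ext` using `hι'`. -/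
theorem exists_sylow_sub [Finite G] (p : ℕ) [Fact p.Prime] {ι : S →* G} (R : Sylow p G)
    (hR : (R : Subgroup G) = ι.range) (H : Subgroup G) (hH : ι.range ≤ H) (ι' : S →* H)
    (hι' : ∀ s, ((ι' s : H) : G) = ι s) : ∃ R' : Sylow p H, (R' : Subgroup H) = ι'.range := by
  have hle : (R : Subgroup G) ≤ H := hR ▸ hH
  refine ⟨R.subtype hle, ?_⟩
  rw [Sylow.coe_subtype, hR]
  ext x
  rw [Subgroup.mem_subgroupOf]
  constructor
  · rintro ⟨s, hs⟩
    exact ⟨s, Subtype.ext ((hι' s).trans hs)⟩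
  · rintro ⟨s, rfl⟩
    exact ⟨s, (hι' s).symm⟩

end Cfsg.Agent.Helper21.TRS
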