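import Mathlib
import Cfsg.Agent.Lib.TRS.TRSDefs

/-! S5156 farm, piece TRS-OPP. -/

set_option autoImplicit false
open Cfsg

namespace Cfsg.Agent.Helper21.TRS

/-- PIECE TRS-OPP (a). `O^{p'}(G)` is normal: its generating set is stable under conjugation
(`orderOf_conj`/`orderOf` of `g * x * g⁻¹`); e.g. `Subgroup.closure_induction` on the membership, or show
`opp p G = Subgroup.normalClosure _` (`Subgroup.normalClosure_normal`). -/
theorem opp_normal (p : ℕ) (G : Type*) [Group G] : (opp p G).Normal := by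
  have hconj : ∀ g x : G, x ∈ {g : G | ∃ k : ℕ, orderOf g = p ^ k} →
      g * x * g⁻¹ ∈ {g : G | ∃ k : ℕ, orderOf g = p ^ k} := by
    rintro g x ⟨k, hk⟩
    refine ⟨k, ?_⟩
    have h : g * x * g⁻¹ = (MulAut.conj g) x := by simp [MulAut.conj_apply]
    rw [h, MulEquiv.orderOf_eq, hk]
  refine ⟨fun n hn g => ?_⟩
  unfold opp at hn ⊢
  induction hn using Subgroup.closure_induction with
  | mem x hx => exact Subgroup.subset_closure (hconj g x hx)
  | one => simp
  | mul a b _ _ ha hb =>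
    have : g * (a * b) * g⁻¹ = (g * a * g⁻¹) * (g * b * g⁻¹) := by group
    rw [this]
    exact Subgroup.mul_mem _ ha hb
  | inv a _ ha =>
    have : g * a⁻¹ * g⁻¹ = (g * a * g⁻¹)⁻¹ := by group
    rw [this]
    exact Subgroup.inv_mem _ ha

/-- PIECE TRS-OPP (b). `O^{p'}(O^{p'}(G)) = O^{p'}(G)`: `Subgroup.closure_closure_coe_preimage` and
`Subgroup.orderOf_coe` (the order of an element of a subgroup is its order in the group). -/
theorem opp_opp (p : ℕ) (G : Type*) [Group G] : opp p ↥(opp p G) = ⊤ := by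
  have h := Subgroup.closure_closure_coe_preimage (k := {g : G | ∃ k : ℕ, orderOf g = p ^ k})
  have hset : {g : ↥(opp p G) | ∃ k : ℕ, orderOf g = p ^ k} =
      ((↑) : ↥(Subgroup.closure {g : G | ∃ k : ℕ, orderOf g = p ^ k}) → G) ⁻¹'
        {g : G | ∃ k : ℕ, orderOf g = p ^ k} := by
    ext g
    show (∃ k : ℕ, orderOf g = p ^ k) ↔ ∃ k : ℕ, orderOf (g : G) = p ^ k
    constructor
    · rintro ⟨k, hk⟩
      exact ⟨k, by rw [← hk]; exact Subgroup.orderOf_coe g⟩
    · rintro ⟨k, hk⟩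
      exact ⟨k, by rw [← hk]; exact (Subgroup.orderOf_coe g).symm⟩
  unfold opp at hset ⊢
  rw [hset]
  exact h

/-- PIECE TRS-OPP (c). A normal subgroup containing a Sylow `p`-subgroup contains every `p`-element: a `p`-element
`g` generates a `p`-subgroup `zpowers g`, contained in a Sylow subgroup (`IsPGroup.exists_le_sylow`), which is conjugate to
`P` (`Sylow` conjugacy: `MulAction.exists_smul_eq`), hence inside `N`. -/
theorem opp_le_of_sylow_le {G : Type*} [Group G] [Finite G] {p : ℕ} [Fact p.Prime] (N : Subgroup G)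
    [N.Normal] (P : Sylow p G) (hPN : (P : Subgroup G) ≤ N) : opp p G ≤ N := by
  unfold opp
  rw [Subgroup.closure_le]
  rintro g ⟨k, hk⟩
  have hpg : IsPGroup p ↥(Subgroup.zpowers g) := by
    rw [IsPGroup.iff_card, Nat.card_zpowers, hk]
    exact ⟨k, rfl⟩
  obtain ⟨Q, hQ⟩ := hpg.exists_le_sylow
  obtain ⟨c, hc⟩ := MulAction.exists_smul_eq G P Q
  have hgQ : g ∈ (Q : Subgroup G) := hQ (Subgroup.mem_zpowers g)
  rw [← hc] at hgQ
  rw [Sylow.coe_subgroup_smul, Subgroup.mem_pointwise_smul_iff_inv_smul_mem] at hgQ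
  have h2 : (MulAut.conj c)⁻¹ • g = c⁻¹ * g * c := by
    rw [← map_inv, MulAut.smul_def, MulAut.conj_apply, inv_inv]
  rw [h2] at hgQ
  have h1 : c⁻¹ * g * c ∈ N := hPN hgQ
  have h3 := ‹N.Normal›.conj_mem _ h1 c
  have h4 : c * (c⁻¹ * g * c) * c⁻¹ = g := by group
  rw [h4] at h3
  exact h3

end Cfsg.Agent.Helper21.TRS
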