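import Mathlib
import Cfsg.Agent.Lib.TRS.TRSOpp
import Cfsg.Agent.Lib.TRS.TRSL3G
import Cfsg.Agent.Lib.TRS.TRSL3A
import Cfsg.Agent.Lib.TRS.TRSL3S
import Cfsg.Agent.Lib.TRS.TRSL3H
import Cfsg.Agent.Lib.Helper10.FusPSolvB
import Cfsg.Agent.Lib.Helper3.ModelTransport
import Cfsg.Agent.Lib.Helper25.FusionSubSys
import Cfsg.Agent.Lib.Helper25.FusionHyp
import Cfsg.Agent.Lib.Helper23.PSolvable

/-! S5156 farm: the hyperfocal subgroup of the `p'`-residual of a `PP`-system is proper. -/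

set_option autoImplicit false
universe u
open Cfsg Cfsg.Agent.Helper21.RealSys

namespace Cfsg.Agent.Helper21.TRS

theorem hyperfocal_pPrimeResidual_ne {Ω : Type u} [Group Ω] {S : Subgroup Ω} [Finite S] (p : ℕ)
    [Fact p.Prime] (hS : IsPGroup p S) (F E : FusionSystem S) (hPP : PP p F)
    (hE : F.IsPPrimeResidual p E) (hne : S ≠ ⊥) : E.hyperfocalSubgroup p ≠ S := by
  have hp : p.Prime := Fact.out
  obtain ⟨G, hG, ι, hm⟩ := Cfsg.Agent.Helper3.Model.exists_model p hS F hPP.1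
  have hsolG : IsPSolvable p G :=
    (Cfsg.Agent.Helper10.FusPSolv.isPSolvable_iff_of_isModel F hS hm).mpr hPP.2
  obtain ⟨hfin, hreal, ⟨R, hR⟩, -⟩ := hm
  haveI := hfin
  have hι := hreal.1
  haveI hHn : (opp p G).Normal := opp_normal p G
  have hpel : ∀ s : S, ι s ∈ opp p G := by
    intro s
    apply Subgroup.subset_closure
    obtain ⟨k, hk⟩ := hS s
    have h1 : (ι s) ^ (p ^ k) = 1 := by rw [← map_pow, hk, map_one]
    obtain ⟨j, -, hj⟩ := (Nat.dvd_prime_pow hp).mp (orderOf_dvd_of_pow_eq_one h1)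
    exact ⟨j, hj⟩
  have hrange : ι.range ≤ opp p G := by
    rintro _ ⟨s, rfl⟩
    exact hpel s
  let ι' : S →* ↥(opp p G) := ι.codRestrict (opp p G) hpel
  have hι' : ∀ s, ((ι' s : ↥(opp p G)) : G) = ι s := fun s => rfl
  have hinj : Function.Injective ι' := by
    intro a b hab
    apply hι
    have := congrArg Subtype.val hab
    simpa [hι'] using this
  obtain ⟨R', hR'⟩ := exists_sylow_sub p R hR (opp p G) hrange ι' hι'
  have hsat' : (realSys ι' hinj).IsSaturated p := realSys_isSaturated ι' hinj R' hR'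
  have hidx' : (realSys ι' hinj).HasPrimeToPIndexIn F p :=
    realSys_sub_primeToP p F hreal (opp p G) (fun g hg => Subgroup.subset_closure hg) ι' hι' hinj
  have hEE' : E.IsSubsystemOf (realSys ι' hinj) := hE.2.2 _ hsat' hidx'
  have hhyp : E.hyperfocalSubgroup p ≤ (realSys ι' hinj).hyperfocalSubgroup p :=
    Cfsg.Agent.Helper25.hyperfocalSubgroup_mono (realSys ι' hinj) E le_rfl hEE' p
  have hsolH : IsPSolvable p ↥(opp p G) :=
    Cfsg.Agent.Helper23.PSolv.isPSolvable_subgroup (opp p G) hsolG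
  have hgen : opp p ↥(opp p G) = ⊤ := opp_opp p G
  -- nontriviality
  obtain ⟨s₀, hs₀, hs₀1⟩ : ∃ s₀ ∈ S, s₀ ≠ 1 := by
    by_contra hcon
    push Not at hcon
    apply hne
    rw [eq_bot_iff]
    intro x hx
    rw [Subgroup.mem_bot]
    exact hcon x hx
  haveI : Nontrivial ↥(opp p G) := by
    refine ⟨⟨ι' ⟨s₀, hs₀⟩, 1, ?_⟩⟩
    intro h
    have h2 : ι' ⟨s₀, hs₀⟩ = ι' 1 := by rw [h, map_one]
    have h3 := hinj h2
    exact hs₀1 (congrArg Subtype.val h3)
  obtain ⟨N, hNn, hNtop, hNidx⟩ := exists_normal_pPower_index hsolH hgen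
  haveI := hNn
  intro heq
  apply hNtop
  have hall : ∀ (x : Ω) (hx : x ∈ S), ι' ⟨x, hx⟩ ∈ N := by
    intro x hx
    apply hyperfocal_realSys_le p hS ι' hinj hsat' N hNidx x hx
    apply hhyp
    rw [heq]
    exact hx
  have hR'N : (R' : Subgroup ↥(opp p G)) ≤ N := by
    rw [hR']
    rintro _ ⟨s, rfl⟩
    exact hall s.1 s.2
  have := opp_le_of_sylow_le N R' hR'N
  rw [hgen] at this
  exact top_le_iff.mp this

end Cfsg.Agent.Helper21.TRS
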