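import Mathlib
import Cfsg.Agent.Lib.TRS.TRSDown
import Cfsg.Agent.Lib.TRS.TRSL3
import Cfsg.Agent.S5140
import Cfsg.Agent.S5141
import Cfsg.Agent.S5120
import Cfsg.Agent.S5113
import Cfsg.Agent.Lib.OLR.OLRSelf
import Cfsg.Agent.Lib.Helper25.FusionHyp

/-! S5156 farm: `PP` gives a terminating residual series. -/

set_option autoImplicit false
universe u
open Cfsg

namespace Cfsg.Agent.Helper21.TRS

theorem terminating_of_pp {Ω : Type u} [Group Ω] (p : ℕ) [Fact p.Prime] :
    ∀ (n : ℕ) {S : Subgroup Ω} [Finite S], IsPGroup p S → ∀ F : FusionSystem S,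
      Nat.card S = n → PP p F → F.HasTerminatingResidualSeries p := by
  intro n
  induction n using Nat.strong_induction_on with
  | _ n ih =>
    intro S _ hS F hn hPP
    by_cases hS0 : S = ⊥
    · exact FusionSystem.HasTerminatingResidualSeries.trivial F p hS0
    have hF : F.IsSaturated p := hPP.1.1
    obtain ⟨E, hE⟩ := Cfsg.Agent.S5140.result p hS F hF
    have hEn : E.IsNormalIn F p :=
      Cfsg.Agent.S5141.result p hS F hF F ⟨hF, hF, Cfsg.Agent.Helper3.OLR.isInvariantIn_self F⟩ E hE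
    have hPE : PP p E := pp_of_isNormalIn p hS F hPP E hEn
    have hTS : E.hyperfocalSubgroup p ≤ S := Cfsg.Agent.Helper25.hyperfocalSubgroup_le E p
    have hTn : ((E.hyperfocalSubgroup p).subgroupOf S).Normal := by
      refine ⟨fun n hn g => ?_⟩
      rw [Subgroup.mem_subgroupOf] at hn ⊢
      simpa using Cfsg.Agent.Helper25.conj_mem_hyperfocalSubgroup E p g.2 hn
    obtain ⟨D, ⟨hDs, hDi⟩, -⟩ :=
      Cfsg.Agent.S5113.result p hS E hE.1 (E.hyperfocalSubgroup p) hTS le_rfl
    have hDn : D.IsNormalIn E p :=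
      Cfsg.Agent.S5120.result p hS E hE.1 (E.hyperfocalSubgroup p) hTS hTn le_rfl D hDs hDi
    have hPD : PP p D := pp_of_isNormalIn p hS E hPE D hDn
    have hneT : E.hyperfocalSubgroup p ≠ S := hyperfocal_pPrimeResidual_ne p hS F E hPP hE hS0
    haveI : Finite ↥(E.hyperfocalSubgroup p) := Cfsg.Agent.Helper25.finite_of_le_finite hTS
    have hcard : Nat.card ↥(E.hyperfocalSubgroup p) < n := by
      rw [← hn]
      by_contra h
      rw [not_lt] at h
      exact hneT (Subgroup.eq_of_le_of_card_ge hTS h)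
    have hDterm : D.HasTerminatingResidualSeries p :=
      ih _ hcard (hS.to_le hTS) D rfl hPD
    exact FusionSystem.HasTerminatingResidualSeries.step F E p D hE ⟨hDs, hDi⟩ hDterm

end Cfsg.Agent.Helper21.TRS
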