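import Mathlib
import Cfsg.Agent.Lib.TRS.TRSSer

/-! S5156 farm, piece TRS-CHN. -/

set_option autoImplicit false
open Cfsg

namespace Cfsg.Agent.Helper21.TRS

variable {Ω : Type*} [Group Ω] {S : Subgroup Ω}

/-- PIECE TRS-CHN. Extending a normal subgroup `Q` by a chain of strongly closed subgroups up to `R`.
Take `(n, D)` from `exists_series_nat p hS F hF hQ` and apply `isNormal_of_series_nat p hS F hF (n + m) D'` with
`D' k := if k ≤ n then D k else A (k - n)`. `D' 0 = ⊥`; `D' (n + m) = R` (for `m = 0`: `D n = Q = A 0 = R`);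
monotone (at `k = n`: `D n = Q = A 0 ≤ A 1`); strongly closed; commutators: for `k < n`,
`⁅R, D (k+1)⁆ ≤ ⁅Q, D (k+1)⁆ ≤ D k` by `hcomm0` (`D (k+1) ≤ D n = Q` by monotonicity, strongly closed);
for `k ≥ n`, `hcomm (k - n)` (with `A 0 = Q = D n` when `k = n`). -/
theorem isNormal_of_normal_of_chain [Finite S] (p : ℕ) [Fact p.Prime] (hS : IsPGroup p S)
    (F : FusionSystem S) (hF : F.IsSaturated p) {Q R : Subgroup Ω} (hQ : F.IsNormal Q)
    (hcomm0 : ∀ X : Subgroup Ω, X ≤ Q → F.StronglyClosed X → ⁅R, X⁆ ≤ ⁅Q, X⁆)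
    (m : ℕ) (A : ℕ → Subgroup Ω) (hA0 : A 0 = Q) (hAm : A m = R)
    (hmono : ∀ j, j < m → A j ≤ A (j + 1))
    (hsc : ∀ j, j < m → F.StronglyClosed (A (j + 1)))
    (hcomm : ∀ j, j < m → ⁅R, A (j + 1)⁆ ≤ A j) : F.IsNormal R := by
  obtain ⟨n, D, h0, hn, hmonoD, hscD, hcommD⟩ := exists_series_nat p hS F hF hQ
  -- monotonicity of `D` up to `n`
  have hle : ∀ d j : ℕ, j + d = n → D j ≤ D n := by
    intro d
    induction d with
    | zero =>
      intro j hj
      have : j = n := by omega
      rw [this]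
    | succ d ih =>
      intro j hj
      exact (hmonoD j (by omega)).trans (ih (j + 1) (by omega))
  have hleQ : ∀ j : ℕ, j ≤ n → D j ≤ Q := by
    intro j hj
    rw [← hn]
    exact hle (n - j) j (by omega)
  have hQA : D n = A 0 := by rw [hn, hA0]
  -- value of the concatenated chain at indices `≥ n`
  have hval : ∀ k : ℕ, n ≤ k → (if k ≤ n then D k else A (k - n)) = A (k - n) := by
    intro k hk
    by_cases hkn : k ≤ n
    · have hkeq : k = n := le_antisymm hkn hk
      rw [if_pos hkn, hkeq, Nat.sub_self]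
      exact hQA
    · rw [if_neg hkn]
  have hvalD : ∀ k : ℕ, k ≤ n → (if k ≤ n then D k else A (k - n)) = D k := by
    intro k hk
    rw [if_pos hk]
  refine isNormal_of_series_nat p hS F hF (n + m)
    (fun k => if k ≤ n then D k else A (k - n)) ?_ ?_ ?_ ?_ ?_
  · show (if 0 ≤ n then D 0 else A (0 - n)) = ⊥
    rw [hvalD 0 (Nat.zero_le n)]
    exact h0
  · show (if n + m ≤ n then D (n + m) else A (n + m - n)) = R
    rw [hval (n + m) (Nat.le_add_right n m), Nat.add_sub_cancel_left]
    exact hAm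
  · intro k hk
    show (if k ≤ n then D k else A (k - n)) ≤ (if k + 1 ≤ n then D (k + 1) else A (k + 1 - n))
    by_cases hkn : k + 1 ≤ n
    · rw [hvalD k (by omega), hvalD (k + 1) hkn]
      exact hmonoD k (by omega)
    · have hnk : n ≤ k := by omega
      rw [hval k hnk, hval (k + 1) (by omega)]
      have e : k + 1 - n = (k - n) + 1 := by omega
      rw [e]
      exact hmono (k - n) (by omega)
  · intro k hk
    show F.StronglyClosed (if k + 1 ≤ n then D (k + 1) else A (k + 1 - n))
    by_cases hkn : k + 1 ≤ n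
    · rw [hvalD (k + 1) hkn]
      exact hscD k (by omega)
    · have hnk : n ≤ k := by omega
      rw [hval (k + 1) (by omega)]
      have e : k + 1 - n = (k - n) + 1 := by omega
      rw [e]
      exact hsc (k - n) (by omega)
  · intro k hk
    show ⁅R, (if k + 1 ≤ n then D (k + 1) else A (k + 1 - n))⁆ ≤
      (if k ≤ n then D k else A (k - n))
    by_cases hkn : k + 1 ≤ n
    · rw [hvalD k (by omega), hvalD (k + 1) hkn]
      exact (hcomm0 (D (k + 1)) (hleQ (k + 1) hkn) (hscD k (by omega))).trans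
        (hcommD k (by omega))
    · have hnk : n ≤ k := by omega
      rw [hval k hnk, hval (k + 1) (by omega)]
      have e : k + 1 - n = (k - n) + 1 := by omega
      rw [e]
      exact hcomm (k - n) (by omega)

end Cfsg.Agent.Helper21.TRS
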