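import Mathlib
import Cfsg.Agent.Lib.TRS.TRSDefs
import Cfsg.Agent.Lib.Helper25.FusionNormal
import Cfsg.Agent.Lib.Helper25.FusionSolv2

/-! S5156 farm, piece TRS-TRIV. -/

set_option autoImplicit false
open Cfsg

namespace Cfsg.Agent.Helper21.TRS

variable {Ω : Type*} [Group Ω] {S : Subgroup Ω}

/-- PIECE TRS-TRIV. A saturated system over the trivial group has `PP`.
Constrained: `⊥` is normal (`Cfsg.Agent.Helper25.isNormal_bot`) and centric
(`Cfsg.Agent.Helper25.isCentric_of_isNormal`: `centralizerIn S ⊥ ≤ S = ⊥`). `p`-solvable: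
`F.core ≤ S = ⊥`, so `↥F.core` is a subsingleton, `MulAut ↥F.core` is a subsingleton, so the
group `↥(F.autGroup F.core)` is trivial: take `n = 0`, `H = fun _ => ⊥` (`⊥ = ⊤` by `Subsingleton`). -/
theorem pp_of_trivial [Finite S] (p : ℕ) [Fact p.Prime] (F : FusionSystem S) (hS0 : S = ⊥)
    (hF : F.IsSaturated p) : PP p F := by
  subst hS0
  refine ⟨⟨hF, ⊥, Cfsg.Agent.Helper25.isNormal_bot F,
    Cfsg.Agent.Helper25.Solv.isCentric_of_isNormal (Cfsg.Agent.Helper25.isNormal_bot F) ?_⟩, ?_⟩
  · intro x hx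
    exact hx.1
  · have hcore : F.core ≤ ⊥ := by
      unfold FusionSystem.core
      apply sSup_le
      intro Q hQ
      exact hQ.1
    haveI : Subsingleton ↥F.core := ⟨fun a b => Subtype.ext (by
      have ha := hcore a.2
      have hb := hcore b.2
      rw [Subgroup.mem_bot] at ha hb
      rw [ha, hb])⟩
    haveI : Subsingleton (MulAut ↥F.core) :=
      ⟨fun a b => MulEquiv.ext (fun x => Subsingleton.elim _ _)⟩
    haveI : Subsingleton (Subgroup ↥(F.autGroup F.core)) :=
      ⟨fun A B => Subgroup.ext (fun x => by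
        have hx : x = 1 := Subsingleton.elim _ _
        rw [hx]
        exact ⟨fun _ => B.one_mem, fun _ => A.one_mem⟩)⟩
    refine ⟨0, fun _ => ⊥, rfl, Subsingleton.elim _ _, fun _ _ _ => le_rfl,
      fun _ => inferInstance, fun i => i.elim0⟩

end Cfsg.Agent.Helper21.TRS
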