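import Mathlib
import Cfsg.Agent.Lib.TRS.TRSDefs
import Cfsg.Agent.Lib.Helper25.StabChain
import Cfsg.Agent.Lib.Helper10.StabChain

/-! S5156 farm, piece TRS-KER. -/

set_option autoImplicit false
open Cfsg

namespace Cfsg.Agent.Helper21.TRS

variable {Ω : Type*} [Group Ω] {S : Subgroup Ω}

/-- PIECE TRS-KER. The automorphisms of the `p`-group `Q` that are trivial on a self-centralizing normal subgroup
`R` form a `p`-group. Pure group theory: for `α` in the kernel, `q ∈ Q`, `r ∈ R`: `q r q⁻¹ ∈ R` is fixed by `α`, so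
`α(q) r α(q)⁻¹ = q r q⁻¹`, so `q⁻¹ α(q)` centralizes `R`, hence lies in `Z(R) ≤ R` and is fixed by `α`. So
`α(q) = q z` with `α z = z`, `z ∈ R`, `α^n (q) = q z^n`, and `α ^ (Nat.card R) = 1` on `Q`; hence every element of the
kernel has order dividing `Nat.card R`, a power of `p`. (Or use the stability-chain lemmas in
`Helper25/StabChain.lean`, `Helper10/StabChain.lean`.) -/
theorem isPGroup_ker_of_selfCentralizing [Finite S] (p : ℕ) [Fact p.Prime] (hS : IsPGroup p S)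
    (F : FusionSystem S) {Q R : Subgroup Ω} (hQS : Q ≤ S) (hRQ : R ≤ Q)
    (hRn : ∀ q ∈ Q, ∀ r ∈ R, q * r * q⁻¹ ∈ R)
    (hcen : ∀ q ∈ Q, (∀ r ∈ R, q * r = r * q) → q ∈ R)
    (ρ : ↥(F.autGroup Q) →* ↥(F.autGroup R))
    (hρ : ∀ (α : ↥(F.autGroup Q)) (x : R),
        ((((ρ α : ↥(F.autGroup R)) : MulAut R) x : R) : Ω)
          = ((((α : ↥(F.autGroup Q)) : MulAut Q) ⟨x, hRQ x.2⟩ : Q) : Ω)) :
    IsPGroup p ρ.ker := by
  have hRS : R ≤ S := hRQ.trans hQS
  haveI : Finite R :=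
    Finite.of_injective (Subgroup.inclusion hRS) (Subgroup.inclusion_injective hRS)
  have hRp : IsPGroup p R := hS.to_le hRS
  obtain ⟨m, hm⟩ := hRp.exists_card_eq
  -- every element of the kernel is killed by `Nat.card R`
  have key : ∀ α : ↥(F.autGroup Q), α ∈ ρ.ker → ((α : MulAut Q)) ^ (Nat.card R) = 1 := by
    intro α hα
    have hρα : ρ α = 1 := hα
    have hfix : ∀ (r : Ω) (hr : r ∈ R), (α : MulAut Q) ⟨r, hRQ hr⟩ = ⟨r, hRQ hr⟩ := by
      intro r hr
      apply Subtype.ext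
      have h1 := hρ α ⟨r, hr⟩
      rw [hρα] at h1
      exact h1.symm
    -- `z = q⁻¹ α(q)` lies in `R`
    have hz : ∀ q : Q, ((q⁻¹ * (α : MulAut Q) q : Q) : Ω) ∈ R := by
      intro q
      apply hcen _ (q⁻¹ * (α : MulAut Q) q).2
      intro r hr
      have hr' : (q : Ω) * r * (q : Ω)⁻¹ ∈ R := hRn q q.2 r hr
      have h1 := hfix _ hr'
      have e1 : (⟨(q : Ω) * r * (q : Ω)⁻¹, hRQ hr'⟩ : Q) = q * ⟨r, hRQ hr⟩ * q⁻¹ := Subtype.ext rfl
      rw [e1, map_mul, map_mul, map_inv, hfix r hr] at h1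
      have h2 := congrArg Subtype.val h1
      simp only [Subgroup.coe_mul, Subgroup.coe_inv] at h2
      -- h2 : α q * r * (α q)⁻¹ = q * r * q⁻¹
      simp only [Subgroup.coe_mul, Subgroup.coe_inv]
      calc (q : Ω)⁻¹ * (((α : MulAut Q) q : Q) : Ω) * r
          = (q : Ω)⁻¹ * ((((α : MulAut Q) q : Q) : Ω) * r * (((α : MulAut Q) q : Q) : Ω)⁻¹) *
              (((α : MulAut Q) q : Q) : Ω) := by group
        _ = (q : Ω)⁻¹ * ((q : Ω) * r * (q : Ω)⁻¹) * (((α : MulAut Q) q : Q) : Ω) := by rw [h2]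
        _ = r * ((q : Ω)⁻¹ * (((α : MulAut Q) q : Q) : Ω)) := by group
    have hfixpow : ∀ (n : ℕ) (r : Ω) (hr : r ∈ R),
        ((α : MulAut Q) ^ n) ⟨r, hRQ hr⟩ = ⟨r, hRQ hr⟩ := by
      intro n
      induction n with
      | zero => intro r hr; rfl
      | succ n ih =>
        intro r hr
        rw [pow_succ, MulAut.mul_apply, hfix r hr, ih r hr]
    have hpow : ∀ (n : ℕ) (q : Q),
        ((α : MulAut Q) ^ n) q = q * (q⁻¹ * (α : MulAut Q) q) ^ n := by
      intro n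
      induction n with
      | zero => intro q; simp
      | succ n ih =>
        intro q
        have e : (α : MulAut Q) q = q * (q⁻¹ * (α : MulAut Q) q) := by group
        have hzz : ((α : MulAut Q) ^ n) (q⁻¹ * (α : MulAut Q) q) = q⁻¹ * (α : MulAut Q) q :=
          hfixpow n _ (hz q)
        calc ((α : MulAut Q) ^ (n + 1)) q = ((α : MulAut Q) ^ n) ((α : MulAut Q) q) := by
              rw [pow_succ, MulAut.mul_apply]
          _ = ((α : MulAut Q) ^ n) (q * (q⁻¹ * (α : MulAut Q) q)) := by rw [← e]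
          _ = ((α : MulAut Q) ^ n) q * ((α : MulAut Q) ^ n) (q⁻¹ * (α : MulAut Q) q) := map_mul _ _ _
          _ = q * (q⁻¹ * (α : MulAut Q) q) ^ n * (q⁻¹ * (α : MulAut Q) q) := by rw [ih q, hzz]
          _ = q * (q⁻¹ * (α : MulAut Q) q) ^ (n + 1) := by rw [pow_succ, mul_assoc]
    ext q
    rw [hpow (Nat.card R) q, MulAut.one_apply]
    have h1 : (⟨((q⁻¹ * (α : MulAut Q) q : Q) : Ω), hz q⟩ : R) ^ Nat.card R = 1 := pow_card_eq_one'
    have h2 : (q⁻¹ * (α : MulAut Q) q) ^ Nat.card R = 1 := by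
      apply Subtype.ext
      have h3 : ((⟨((q⁻¹ * (α : MulAut Q) q : Q) : Ω), hz q⟩ : R) : Ω) ^ Nat.card R = 1 := by
        rw [← SubmonoidClass.coe_pow, h1]
        rfl
      rw [SubmonoidClass.coe_pow]
      exact h3
    rw [h2, mul_one]
  intro g
  refine ⟨m, ?_⟩
  apply Subtype.ext
  apply Subtype.ext
  have h1 := key g.1 g.2
  rw [hm] at h1
  simpa using h1

end Cfsg.Agent.Helper21.TRS
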