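import Mathlib
import Cfsg.Agent.Lib.TRS.TRSRes
import Cfsg.Agent.Lib.TRS.TRSKer
import Cfsg.Agent.Lib.Helper10.FusPSolvA
import Cfsg.Agent.Lib.Helper23.PSolvable
import Cfsg.Agent.Lib.Helper25.FusionNormal
import Cfsg.Agent.Lib.Helper25.FusionNormal2

/-! S5156 farm, piece TRS-M (assembly of TRS-RES + TRS-KER). -/

set_option autoImplicit false
open Cfsg

namespace Cfsg.Agent.Helper21.TRS

variable {Ω : Type*} [Group Ω] {S : Subgroup Ω}

/-- PIECE TRS-M. For a normal centric subgroup `R` of `F`: `Aut_F(R)` is `p`-solvable iff `Aut_F(O_p(F))` is.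
`R ≤ F.core` (`le_sSup hRn`), `F.core` is normal (`Cfsg.Agent.Helper25.isNormal_core`), `R` is strongly closed
(`Cfsg.Agent.Helper25.stronglyClosed_of_isNormal`). Take `ρ` from `exists_resHom F (isNormal_core F) hRsc hle`.
Its kernel is a `p`-group by `isPGroup_ker_of_selfCentralizing` (`R` is normalized by `S ≥ F.core` since strongly
closed — `conj_mem_of_stronglyClosed`; an element of `F.core ≤ S` centralizing `R` lies in `centralizerIn S R ≤ R`
by `hRc.2 R (isConj_refl …)`). `(←)`: `isPSolvable_of_surjective ρ`. `(→)`: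
`Cfsg.Agent.Helper10.FusPSolv.isPSolvable_of_ker_pGroup ρ hker` with `ρ.range = ⊤` (transport along
`Subgroup.topEquiv` / `MonoidHom.range_eq_top`). `Finite ↥(F.autGroup F.core)` from `Finite (MulAut ↥F.core)`. -/
theorem isPSolvable_autGroup_iff [Finite S] (p : ℕ) [Fact p.Prime] (hS : IsPGroup p S)
    (F : FusionSystem S) {R : Subgroup Ω} (hRn : F.IsNormal R) (hRc : F.IsCentric R) :
    IsPSolvable p ↥(F.autGroup R) ↔ IsPSolvable p ↥(F.autGroup F.core) := by
  have hcore := Cfsg.Agent.Helper25.isNormal_core F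
  have hRsc := Cfsg.Agent.Helper25.stronglyClosed_of_isNormal F hRn
  have hle : R ≤ F.core := le_sSup hRn
  have hcoreS : F.core ≤ S := hcore.1
  obtain ⟨ρ, hρsurj, hρv⟩ := exists_resHom F hcore hRsc hle
  have hker : IsPGroup p ρ.ker := by
    apply isPGroup_ker_of_selfCentralizing p hS F hcoreS hle ?_ ?_ ρ hρv
    · intro q hq r hr
      exact hRsc.2 R le_rfl _ (F.conj_mem hRsc.1 (hcoreS hq)) ⟨r, hr⟩
    · intro q hq hcomm
      apply hRc.2 R (Cfsg.Agent.Helper25.isConj_refl F hRc.1)
      rw [Cfsg.Agent.Helper25.mem_centralizerIn]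
      exact ⟨hcoreS hq, fun r hr => (hcomm r hr).symm⟩
  have hfin1 : Finite ↥F.core :=
    Finite.of_injective (Subgroup.inclusion hcoreS) (Subgroup.inclusion_injective _)
  have hfin2 : Finite (MulAut ↥F.core) :=
    Finite.of_injective (fun α : MulAut ↥F.core => (α : ↥F.core → ↥F.core)) DFunLike.coe_injective
  have hfin3 : Finite ↥(F.autGroup F.core) := Subtype.finite
  constructor
  · intro h
    apply Cfsg.Agent.Helper10.FusPSolv.isPSolvable_of_ker_pGroup ρ hker
    have hr : ρ.range = ⊤ := MonoidHom.range_eq_top.mpr hρsurj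
    rw [hr]
    exact Cfsg.Agent.Helper23.PSolv.isPSolvable_of_mulEquiv Subgroup.topEquiv.symm h
  · intro h
    exact Cfsg.Agent.Helper23.PSolv.isPSolvable_of_surjective ρ hρsurj h

end Cfsg.Agent.Helper21.TRS
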