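import Mathlib
import Cfsg.Agent.Lib.TRS.TRSCore
import Cfsg.Agent.Lib.TRS.TRSM
import Cfsg.Agent.Lib.TRS.TRSAutUp
import Cfsg.Agent.S5141
import Cfsg.Agent.Lib.OLR.OLRSelf
import Cfsg.Agent.Lib.Helper3.SubConstrained
import Cfsg.Agent.Lib.Helper25.FusionSolv2

/-! S5156 farm: `PP` passes from the `p'`-residual subsystem up to `F`. -/

set_option autoImplicit false
open Cfsg

namespace Cfsg.Agent.Helper21.TRS

variable {Ω : Type*} [Group Ω] {S : Subgroup Ω}

theorem pp_of_pPrimeResidual [Finite S] (p : ℕ) [Fact p.Prime] (hS : IsPGroup p S)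
    (F E : FusionSystem S) (hF : F.IsSaturated p) (hE : F.IsPPrimeResidual p E) (hPP : PP p E) :
    PP p F := by
  have hEn : E.IsNormalIn F p :=
    Cfsg.Agent.S5141.result p hS F hF F ⟨hF, hF, Cfsg.Agent.Helper3.OLR.isInvariantIn_self F⟩ E hE
  have hQn : F.IsNormal E.core := isNormal_core_of_isNormalIn p hS F E hEn
  have hQcE : E.IsCentric E.core := Cfsg.Agent.Helper3.SubConstrained.core_isCentric E hPP.1
  have hQS : E.core ≤ S := hQn.1
  have hC : FusionSystem.centralizerIn S E.core ≤ E.core :=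
    hQcE.2 E.core (Cfsg.Agent.Helper25.isConj_refl E hQS)
  have hQc : F.IsCentric E.core := Cfsg.Agent.Helper25.Solv.isCentric_of_isNormal hQn hC
  have hcon : F.IsConstrained p := ⟨hF, E.core, hQn, hQc⟩
  refine ⟨hcon, ?_⟩
  have h1 : IsPSolvable p ↥(F.autGroup E.core) :=
    isPSolvable_autGroup_of_primeToP p F E hE.2.1 hQS hPP.2
  exact (isPSolvable_autGroup_iff p hS F hQn hQc).mp h1

end Cfsg.Agent.Helper21.TRS
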