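import Mathlib
import Cfsg.Agent.Lib.TRS.TRSDefs
import Cfsg.Agent.Lib.Helper25.FusionHyp

/-! S5156 farm, piece TRS-UP2K. -/

set_option autoImplicit false
open Cfsg

namespace Cfsg.Agent.Helper21.TRS

variable {Ω : Type*} [Group Ω] {S : Subgroup Ω}

/-- PIECE TRS-UP2K. With `T = hyp(E)` and `Q ≤ R ≤ S`, `R ⊓ T ≤ Q`: the kernel of a restriction homomorphism
`ρ : Aut_E(R) → Aut_E(Q)` is a `p`-group. Let `α ∈ ker ρ` and let `β` be the `p'`-part of `α` (a power of `α`, so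
`β ∈ ker ρ`, of order prime to `p`; e.g. `β = α ^ (p ^ e)` where `orderOf α = p ^ e * m`, `p ∤ m`). `β` is a generator
of `pResidual p ↥(E.autGroup R)`, so for `x : R`, `x⁻¹ β(x) ∈ hyp(E)` (`Cfsg.Agent.Helper25.hyperfocal_gen_mem`), and it
lies in `R`, hence in `Q`; `β` fixes `Q` pointwise (`hρ`, `β ∈ ker ρ`). So `β(x) = x z` with `z ∈ Q` fixed by `β`,
`β^k(x) = x z^k`, `β ^ (Nat.card Q) = 1`; `orderOf β` divides a power of `p` and is prime to `p`, so `β = 1`, i.e.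
`α ^ (p ^ e) = 1`. -/
theorem isPGroup_ker_res_hyperfocal [Finite S] (p : ℕ) [Fact p.Prime] (hS : IsPGroup p S)
    (E : FusionSystem S) {Q R : Subgroup Ω} (hRS : R ≤ S) (hQR : Q ≤ R)
    (hRT : R ⊓ E.hyperfocalSubgroup p ≤ Q)
    (ρ : ↥(E.autGroup R) →* ↥(E.autGroup Q))
    (hρ : ∀ (α : ↥(E.autGroup R)) (x : Q),
        ((((ρ α : ↥(E.autGroup Q)) : MulAut Q) x : Q) : Ω)
          = ((((α : ↥(E.autGroup R)) : MulAut R) ⟨x, hQR x.2⟩ : R) : Ω)) :
    IsPGroup p ρ.ker := by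
  have hp : p.Prime := Fact.out
  have hfR : Finite R := Finite.of_injective (Subgroup.inclusion hRS) (Subgroup.inclusion_injective hRS)
  have hfQ : Finite Q := Finite.of_injective (Subgroup.inclusion (hQR.trans hRS))
    (Subgroup.inclusion_injective (hQR.trans hRS))
  have hQp : IsPGroup p Q := hS.to_le (hQR.trans hRS)
  rintro ⟨α, hα⟩
  have hn : orderOf α ≠ 0 := (orderOf_pos α).ne'
  obtain ⟨e, m, hm, hnm⟩ := Nat.exists_eq_pow_mul_and_not_dvd hn p hp.ne_one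
  refine ⟨e, ?_⟩
  obtain ⟨β, hβdef⟩ : ∃ β : ↥(E.autGroup R), β = α ^ (p ^ e) := ⟨_, rfl⟩
  have hβord : orderOf β = m := by
    rw [hβdef, orderOf_pow_of_dvd (pow_ne_zero _ hp.ne_zero) (hnm ▸ Dvd.intro _ rfl), hnm]
    exact Nat.mul_div_cancel_left m (pow_pos hp.pos e)
  have hcop : (orderOf β).Coprime p := by
    rw [hβord]
    exact ((Nat.Prime.coprime_iff_not_dvd hp).mpr hm).symm
  have hβres : β ∈ pResidual p ↥(E.autGroup R) := Subgroup.subset_closure hcop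
  have hβker : ρ β = 1 := by
    rw [hβdef, map_pow, (MonoidHom.mem_ker).mp hα, one_pow]
  have hfixQ : ∀ (x : R), (x : Ω) ∈ Q → (β : MulAut R) x = x := by
    intro x hx
    apply Subtype.ext
    have h1 := hρ β ⟨x, hx⟩
    rw [hβker] at h1
    exact h1.symm
  have hz : ∀ x : R, ((x⁻¹ * (β : MulAut R) x : R) : Ω) ∈ Q := fun x =>
    hRT ⟨(x⁻¹ * (β : MulAut R) x).2, Cfsg.Agent.Helper25.hyperfocal_gen_mem E p hRS β hβres x⟩
  have hpow : ∀ (x : R) (k : ℕ), ((β : MulAut R) ^ k) x = x * (x⁻¹ * (β : MulAut R) x) ^ k := by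
    intro x k
    induction k with
    | zero => simp
    | succ k ih =>
      rw [pow_succ', MulAut.mul_apply, ih, map_mul, map_pow, hfixQ _ (hz x), pow_succ', ← mul_assoc,
        mul_inv_cancel_left]
  obtain ⟨j, hj⟩ := (IsPGroup.iff_card.mp hQp)
  have hβone : (β : MulAut R) ^ (p ^ j) = 1 := by
    ext x
    rw [hpow]
    have h1 : (⟨_, hz x⟩ : Q) ^ (p ^ j) = 1 := by
      rw [← hj]; exact pow_card_eq_one'
    have h2 : ((x⁻¹ * (β : MulAut R) x : R)) ^ (p ^ j) = 1 := by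
      apply Subtype.ext
      have := congrArg (fun q : Q => (q : Ω)) h1
      simpa using this
    rw [h2, mul_one]
    rfl
  have hdvd : orderOf β ∣ p ^ j := by
    rw [← Subgroup.orderOf_coe]
    exact orderOf_dvd_of_pow_eq_one hβone
  have hone : orderOf β = 1 := Nat.Coprime.eq_one_of_dvd (Nat.Coprime.pow_right j hcop) hdvd
  have hβ1 : β = 1 := orderOf_eq_one_iff.mp hone
  apply Subtype.ext
  show α ^ (p ^ e) = 1
  rw [← hβdef, hβ1]


end Cfsg.Agent.Helper21.TRS
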