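import Mathlib
import Cfsg.Agent.Lib.TRS.TRSDefs
import Cfsg.Agent.Lib.Helper16.PPowNormal1
import Cfsg.Agent.Lib.Helper25.FusionHyp
import Cfsg.Agent.Lib.Helper3.SubConstrained

/-! S5156 farm, piece TRS-LCS. -/

set_option autoImplicit false
open Cfsg

namespace Cfsg.Agent.Helper21.TRS

variable {Ω : Type*} [Group Ω] {S : Subgroup Ω}

/-- PIECE TRS-LCS. A descending `S`-central chain from `S` to the hyperfocal subgroup `T` by strongly closed subgroups.
`L j := (lowerCentralSeries ↥S j).map S.subtype ⊔ T`. `S` is nilpotent (`IsPGroup.isNilpotent`), so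
`lowerCentralSeries ↥S m = ⊥` for some `m` (`nilpotent_iff_lowerCentralSeries`), `L m = T`; `L 0 = S` since `T ≤ S`
(`Cfsg.Agent.Helper25.hyperfocalSubgroup_le`). `L j ≤ S`, `(L j).subgroupOf S` is normal (`lowerCentralSeries` terms
are normal, `T` is normal in `S` by `Cfsg.Agent.Helper25.conj_mem_hyperfocalSubgroup`), `T ≤ L j`, so `L j` is strongly
closed by `Cfsg.Agent.Helper16.PPowNormal.stronglyClosed_of_hyp_le`. `⁅S, L j⁆ ≤ L (j+1)`:
`⁅S, γ_j⁆ ≤ γ_{j+1}` (`lowerCentralSeries_succ`), `⁅S, T⁆ ≤ T` (normality), and a commutator with a join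
(`Cfsg.Agent.Helper3.SubConstrained.commutator_sup_le` in `Lib/Helper3/SubConstrained.lean` if convenient). -/
theorem exists_chain_above_hyperfocal [Finite S] (p : ℕ) [Fact p.Prime] (hS : IsPGroup p S)
    (E : FusionSystem S) (hE : E.IsSaturated p) :
    ∃ (m : ℕ) (L : ℕ → Subgroup Ω), L 0 = S ∧ L m = E.hyperfocalSubgroup p ∧
      (∀ j, j < m → L (j + 1) ≤ L j) ∧ (∀ j, j ≤ m → E.StronglyClosed (L j)) ∧
      ∀ j, j < m → ⁅S, L j⁆ ≤ L (j + 1) := by
  have hnil : Group.IsNilpotent ↥S := hS.isNilpotent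
  obtain ⟨m, hm⟩ := (Subgroup.isNilpotent_iff_lowerCentralSeries S).mp hnil
  have hTS : E.hyperfocalSubgroup p ≤ S := Cfsg.Agent.Helper25.hyperfocalSubgroup_le E p
  have hLS : ∀ j, S.lowerCentralSeries j ⊔ E.hyperfocalSubgroup p ≤ S := fun j =>
    sup_le (Subgroup.lowerCentralSeries_le_self S j) hTS
  -- conjugation by `S` preserves each term
  have hconj : ∀ j, ∀ s ∈ S, ∀ y ∈ S.lowerCentralSeries j ⊔ E.hyperfocalSubgroup p,
      s * y * s⁻¹ ∈ S.lowerCentralSeries j ⊔ E.hyperfocalSubgroup p := by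
    intro j s hs y hy
    have hle : (S.lowerCentralSeries j ⊔ E.hyperfocalSubgroup p).map (MulAut.conj s).toMonoidHom ≤
        S.lowerCentralSeries j ⊔ E.hyperfocalSubgroup p := by
      rw [Subgroup.map_sup]
      apply sup_le_sup
      · rintro _ ⟨z, hz, rfl⟩
        have hn := S.self_le_normalizer_lowerCentralSeries j hs
        exact (Subgroup.mem_normalizer_iff.mp hn z).mp hz
      · rintro _ ⟨z, hz, rfl⟩
        exact Cfsg.Agent.Helper25.conj_mem_hyperfocalSubgroup E p hs hz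
    exact hle ⟨y, hy, rfl⟩
  refine ⟨m, fun j => S.lowerCentralSeries j ⊔ E.hyperfocalSubgroup p, ?_, ?_, ?_, ?_, ?_⟩
  · show S.lowerCentralSeries 0 ⊔ E.hyperfocalSubgroup p = S
    rw [Subgroup.lowerCentralSeries_zero]
    exact sup_eq_left.mpr hTS
  · show S.lowerCentralSeries m ⊔ E.hyperfocalSubgroup p = E.hyperfocalSubgroup p
    rw [hm, bot_sup_eq]
  · intro j _
    exact sup_le_sup_right (Subgroup.lowerCentralSeries_antitone S (Nat.le_succ j)) _
  · intro j _
    refine Cfsg.Agent.Helper16.PPowNormal.stronglyClosed_of_hyp_le p hS E hE (hLS j) ?_ le_sup_right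
    constructor
    intro x hx g
    rw [Subgroup.mem_subgroupOf] at hx ⊢
    exact hconj j g g.2 x hx
  · intro j _
    rw [Subgroup.commutator_comm]
    refine Cfsg.Agent.Helper3.SubConstrained.commutator_sup_le ?_ ?_ ?_
    · show ⁅S.lowerCentralSeries j, S⁆ ≤ S.lowerCentralSeries (j + 1) ⊔ E.hyperfocalSubgroup p
      rw [← Subgroup.lowerCentralSeries_succ]
      exact le_sup_left
    · refine (Subgroup.commutator_le.mpr ?_).trans le_sup_right
      intro t ht s hs
      have h1 := Cfsg.Agent.Helper25.conj_mem_hyperfocalSubgroup E p hs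
        ((E.hyperfocalSubgroup p).inv_mem ht)
      have h2 : t * s * t⁻¹ * s⁻¹ = t * (s * t⁻¹ * s⁻¹) := by group
      rw [commutatorElement_def, h2]
      exact (E.hyperfocalSubgroup p).mul_mem ht h1
    · intro g hg k hk
      exact hconj (j + 1) g (hLS j hg) k hk

end Cfsg.Agent.Helper21.TRS
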