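import Mathlib
import Cfsg.Agent.Lib.TRS.TRSChn
import Cfsg.Agent.Lib.TRS.TRSLcs
import Cfsg.Agent.S5255
import Cfsg.Agent.Lib.Helper3.SubConstrained

/-! S5156 farm, piece TRS-UP2R. -/

set_option autoImplicit false
open Cfsg

namespace Cfsg.Agent.Helper21.TRS

variable {Ω : Type*} [Group Ω] {S : Subgroup Ω}

/-- PIECE TRS-UP2R. Let `T = hyp(E)`, `Q ≤ T` normal in `E` with `C_T(Q) ≤ Q`. Then `R := Q C_S(Q)` is normal in `E`.
`Q` is strongly closed (`Cfsg.Agent.Helper25.stronglyClosed_of_isNormal`), so `R` is strongly closed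
(`Cfsg.Agent.S5255.result`). `R ⊓ T = Q`: for `y ∈ R ⊓ T` write `y = q c` (`Q` is normalized by `C_S(Q)`), then
`c = q⁻¹ y ∈ T ⊓ C_S(Q) = centralizerIn T Q ≤ Q`. Take `(m, L)` from `exists_chain_above_hyperfocal` and apply
`isNormal_of_normal_of_chain` with `A j := R ⊓ L (m - j)`: `A 0 = R ⊓ T = Q`, `A m = R ⊓ S = R`, monotone, strongly
closed (`Cfsg.Agent.Helper3.SubConstrained.stronglyClosed_inf`), `⁅R, R ⊓ L (m-j-1)⁆ ≤ R ⊓ L (m-j)` (inside `R`, and inside
`⁅S, L (m-j-1)⁆ ≤ L (m-j)`), and `hcomm0`: for `X ≤ Q` strongly closed, `⁅Q ⊔ C_S(Q), X⁆ ≤ ⁅Q, X⁆` by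
`Cfsg.Agent.Helper3.SubConstrained.commutator_sup_le` (`⁅C_S(Q), X⁆ = ⊥`; `⁅Q, X⁆` is normalized by `S` since `Q` and `X`
are). -/
theorem isNormal_sup_centralizer [Finite S] (p : ℕ) [Fact p.Prime] (hS : IsPGroup p S)
    (E : FusionSystem S) (hE : E.IsSaturated p) {Q : Subgroup Ω} (hQ : E.IsNormal Q)
    (hQT : Q ≤ E.hyperfocalSubgroup p)
    (hcen : FusionSystem.centralizerIn (E.hyperfocalSubgroup p) Q ≤ Q) :
    E.IsNormal (Q ⊔ FusionSystem.centralizerIn S Q) := by
  have hQsc : E.StronglyClosed Q := Cfsg.Agent.Helper25.stronglyClosed_of_isNormal E hQ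
  have hRsc : E.StronglyClosed (Q ⊔ FusionSystem.centralizerIn S Q) :=
    Cfsg.Agent.S5255.result p hS E hE Q hQsc
  have hRS : Q ⊔ FusionSystem.centralizerIn S Q ≤ S := hRsc.1
  -- elements of `C_S(Q)` commute with elements of `Q`
  have hcomm' : ∀ c ∈ FusionSystem.centralizerIn S Q, ∀ q ∈ Q, q * c = c * q := by
    intro c hc q hq
    exact (Subgroup.mem_centralizer_iff.mp hc.2) q hq
  -- product decomposition of `R`
  have hdec : ∀ y ∈ Q ⊔ FusionSystem.centralizerIn S Q,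
      ∃ q ∈ Q, ∃ c ∈ FusionSystem.centralizerIn S Q, y = q * c := by
    intro y hy
    refine Cfsg.Agent.Helper25.exists_mul_of_mem_sup ?_ hy
    intro u hu v hv
    have h1 := hcomm' v hv u hu
    have e : u⁻¹ * v * u = v := by
      rw [mul_assoc, ← h1]
      group
    rw [e]
    exact hv
  -- `R ⊓ T = Q`
  have hRT : (Q ⊔ FusionSystem.centralizerIn S Q) ⊓ E.hyperfocalSubgroup p = Q := by
    apply le_antisymm
    · rintro y ⟨hyR, hyT⟩
      obtain ⟨q, hq, c, hc, rfl⟩ := hdec y hyR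
      have hcT : c ∈ E.hyperfocalSubgroup p := by
        have h2 : q⁻¹ * (q * c) ∈ E.hyperfocalSubgroup p :=
          Subgroup.mul_mem _ (Subgroup.inv_mem _ (hQT hq)) hyT
        simpa using h2
      have hcQ : c ∈ Q := hcen ⟨hcT, hc.2⟩
      exact Q.mul_mem hq hcQ
    · exact le_inf le_sup_left hQT
  obtain ⟨m, L, hL0, hLm, hLmono, hLsc, hLcomm⟩ := exists_chain_above_hyperfocal p hS E hE
  refine isNormal_of_normal_of_chain p hS E hE hQ ?_ m
    (fun j => (Q ⊔ FusionSystem.centralizerIn S Q) ⊓ L (m - j)) ?_ ?_ ?_ ?_ ?_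
  · -- hcomm0
    intro X hXQ hXsc
    refine Cfsg.Agent.Helper3.SubConstrained.commutator_sup_le le_rfl ?_ ?_
    · rw [Subgroup.commutator_le]
      intro c hc x hx
      have h1 := hcomm' c hc x (hXQ hx)
      have h2 : c * x * c⁻¹ * x⁻¹ = 1 := by
        rw [← h1]
        group
      rw [commutatorElement_def, h2]
      exact Subgroup.one_mem _
    · intro g hg k hk
      have hgS : g ∈ S := hRS hg
      have hmapQ : Q.map (MulAut.conj g).toMonoidHom ≤ Q := by
        rintro _ ⟨q, hq, rfl⟩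
        exact Cfsg.Agent.Helper25.conj_mem_of_stronglyClosed E hQsc hgS hq
      have hmapX : X.map (MulAut.conj g).toMonoidHom ≤ X := by
        rintro _ ⟨x, hx, rfl⟩
        exact Cfsg.Agent.Helper25.conj_mem_of_stronglyClosed E hXsc hgS hx
      have h3 : (⁅Q, X⁆).map (MulAut.conj g).toMonoidHom ≤ ⁅Q, X⁆ := by
        rw [Subgroup.map_commutator]
        exact Subgroup.commutator_mono hmapQ hmapX
      exact h3 ⟨k, hk, rfl⟩
  · -- A 0 = Q
    show (Q ⊔ FusionSystem.centralizerIn S Q) ⊓ L (m - 0) = Q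
    rw [Nat.sub_zero, hLm, hRT]
  · -- A m = R
    show (Q ⊔ FusionSystem.centralizerIn S Q) ⊓ L (m - m) = Q ⊔ FusionSystem.centralizerIn S Q
    rw [Nat.sub_self, hL0]
    exact inf_eq_left.mpr hRS
  · -- monotone
    intro j hj
    show (Q ⊔ FusionSystem.centralizerIn S Q) ⊓ L (m - j) ≤
      (Q ⊔ FusionSystem.centralizerIn S Q) ⊓ L (m - (j + 1))
    have h1 := hLmono (m - (j + 1)) (by omega)
    have e : m - (j + 1) + 1 = m - j := by omega
    rw [e] at h1
    exact inf_le_inf_left _ h1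
  · -- strongly closed
    intro j hj
    exact Cfsg.Agent.Helper3.SubConstrained.stronglyClosed_inf E hRsc (hLsc _ (by omega))
  · -- commutators
    intro j hj
    show ⁅Q ⊔ FusionSystem.centralizerIn S Q,
      (Q ⊔ FusionSystem.centralizerIn S Q) ⊓ L (m - (j + 1))⁆ ≤
      (Q ⊔ FusionSystem.centralizerIn S Q) ⊓ L (m - j)
    refine le_inf ?_ ?_
    · rw [Subgroup.commutator_le]
      intro a ha b hb
      rw [commutatorElement_def]
      exact Subgroup.mul_mem _ (Subgroup.mul_mem _ (Subgroup.mul_mem _ ha hb.1)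
        (Subgroup.inv_mem _ ha)) (Subgroup.inv_mem _ hb.1)
    · have h1 := hLcomm (m - (j + 1)) (by omega)
      have e : m - (j + 1) + 1 = m - j := by omega
      rw [e] at h1
      exact le_trans (Subgroup.commutator_mono hRS inf_le_right) h1

end Cfsg.Agent.Helper21.TRS
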