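import Mathlib
import Cfsg.Agent.Lib.TRS.TRSCore
import Cfsg.Agent.Lib.TRS.TRSM
import Cfsg.Agent.Lib.TRS.TRSAutUp
import Cfsg.Agent.Lib.TRS.TRSUp2R
import Cfsg.Agent.Lib.TRS.TRSUp2K
import Cfsg.Agent.Lib.TRS.TRSRes
import Cfsg.Agent.S5120
import Cfsg.Agent.Lib.Helper3.SubConstrained
import Cfsg.Agent.Lib.Helper25.FusionSolv2
import Cfsg.Agent.Lib.Helper25.FusionHyp
import Cfsg.Agent.Lib.Helper10.FusPSolvA
import Cfsg.Agent.Lib.Helper23.PSolvable

/-! S5156 farm: `PP` passes from the `p`-residual subsystem up to `E`. -/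

set_option autoImplicit false
open Cfsg

namespace Cfsg.Agent.Helper21.TRS

variable {Ω : Type*} [Group Ω] {S : Subgroup Ω}

theorem pp_of_pResidual [Finite S] (p : ℕ) [Fact p.Prime] (hS : IsPGroup p S)
    (E : FusionSystem S) (hE : E.IsSaturated p) (D : FusionSystem (E.hyperfocalSubgroup p))
    (hD : E.IsPResidual p D) (hPP : PP p D) : PP p E := by
  have hTS : E.hyperfocalSubgroup p ≤ S := Cfsg.Agent.Helper25.hyperfocalSubgroup_le E p
  have hTn : ((E.hyperfocalSubgroup p).subgroupOf S).Normal := by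
    refine ⟨fun n hn g => ?_⟩
    rw [Subgroup.mem_subgroupOf] at hn ⊢
    simpa using Cfsg.Agent.Helper25.conj_mem_hyperfocalSubgroup E p g.2 hn
  haveI : Finite ↥(E.hyperfocalSubgroup p) := Cfsg.Agent.Helper25.finite_of_le_finite hTS
  have hDn : D.IsNormalIn E p :=
    Cfsg.Agent.S5120.result p hS E hE (E.hyperfocalSubgroup p) hTS hTn le_rfl D hD.1 hD.2
  have hQnE : E.IsNormal D.core := isNormal_core_of_isNormalIn p hS E D hDn
  have hQT : D.core ≤ E.hyperfocalSubgroup p := (Cfsg.Agent.Helper25.isNormal_core D).1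
  have hQcD : D.IsCentric D.core := Cfsg.Agent.Helper3.SubConstrained.core_isCentric D hPP.1
  have hcen : FusionSystem.centralizerIn (E.hyperfocalSubgroup p) D.core ≤ D.core :=
    hQcD.2 D.core (Cfsg.Agent.Helper25.isConj_refl D hQT)
  have hRn : E.IsNormal (D.core ⊔ FusionSystem.centralizerIn S D.core) :=
    isNormal_sup_centralizer p hS E hE hQnE hQT hcen
  have hRS : D.core ⊔ FusionSystem.centralizerIn S D.core ≤ S := hRn.1
  have hCR : FusionSystem.centralizerIn S (D.core ⊔ FusionSystem.centralizerIn S D.core)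
      ≤ D.core ⊔ FusionSystem.centralizerIn S D.core := by
    intro y hy
    refine le_sup_right (a := D.core) ?_
    refine ⟨hy.1, ?_⟩
    show y ∈ Subgroup.centralizer (D.core : Set Ω)
    rw [Subgroup.mem_centralizer_iff]
    intro q hq
    exact (Subgroup.mem_centralizer_iff.mp hy.2) q (le_sup_left (b := FusionSystem.centralizerIn S D.core) hq)
  have hRc : E.IsCentric (D.core ⊔ FusionSystem.centralizerIn S D.core) :=
    Cfsg.Agent.Helper25.Solv.isCentric_of_isNormal hRn hCR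
  have hcon : E.IsConstrained p := ⟨hE, _, hRn, hRc⟩
  refine ⟨hcon, ?_⟩
  -- `R ⊓ T ≤ Q`
  have hcomm' : ∀ c ∈ FusionSystem.centralizerIn S D.core, ∀ q ∈ D.core, q * c = c * q := by
    intro c hc q hq
    exact (Subgroup.mem_centralizer_iff.mp hc.2) q hq
  have hdec : ∀ y ∈ D.core ⊔ FusionSystem.centralizerIn S D.core,
      ∃ q ∈ D.core, ∃ c ∈ FusionSystem.centralizerIn S D.core, y = q * c := by
    intro y hy
    refine Cfsg.Agent.Helper25.exists_mul_of_mem_sup ?_ hy
    intro u hu v hv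
    have h1 := hcomm' v hv u hu
    have e : u⁻¹ * v * u = v := by
      rw [mul_assoc, ← h1]
      group
    rw [e]
    exact hv
  have hRT : (D.core ⊔ FusionSystem.centralizerIn S D.core) ⊓ E.hyperfocalSubgroup p ≤ D.core := by
    rintro y ⟨hyR, hyT⟩
    obtain ⟨q, hq, c, hc, rfl⟩ := hdec y hyR
    have hcT : c ∈ E.hyperfocalSubgroup p := by
      have h2 : q⁻¹ * (q * c) ∈ E.hyperfocalSubgroup p :=
        Subgroup.mul_mem _ (Subgroup.inv_mem _ (hQT hq)) hyT
      simpa using h2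
    have hcQ : c ∈ D.core := hcen ⟨hcT, hc.2⟩
    exact D.core.mul_mem hq hcQ
  -- solvability
  have h1 : IsPSolvable p ↥(E.autGroup D.core) :=
    isPSolvable_autGroup_of_pPower p E D hD.2 hTS hQT hPP.2
  obtain ⟨ρ, -, hρ⟩ := exists_resHom E hRn
    (Cfsg.Agent.Helper25.stronglyClosed_of_isNormal E hQnE)
    (le_sup_left : D.core ≤ D.core ⊔ FusionSystem.centralizerIn S D.core)
  have hker : IsPGroup p ρ.ker :=
    isPGroup_ker_res_hyperfocal p hS E hRS le_sup_left hRT ρ hρ
  haveI : Finite ↥(D.core ⊔ FusionSystem.centralizerIn S D.core) :=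
    Cfsg.Agent.Helper25.finite_of_le_finite hRS
  have h2 : IsPSolvable p ↥(E.autGroup (D.core ⊔ FusionSystem.centralizerIn S D.core)) :=
    Cfsg.Agent.Helper10.FusPSolv.isPSolvable_of_ker_pGroup ρ hker
      (Cfsg.Agent.Helper23.PSolv.isPSolvable_subgroup ρ.range h1)
  exact (isPSolvable_autGroup_iff p hS E hRn hRc).mp h2

end Cfsg.Agent.Helper21.TRS
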