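import Mathlib
import Cfsg.Agent.Lib.TRS.TRSTriv
import Cfsg.Agent.Lib.TRS.TRSUp1
import Cfsg.Agent.Lib.TRS.TRSUp2
import Cfsg.Agent.Lib.Helper25.FusionHyp

/-! S5156 farm: a terminating residual series gives `PP`. -/

set_option autoImplicit false
open Cfsg

namespace Cfsg.Agent.Helper21.TRS

theorem pp_of_terminating {Ω : Type*} [Group Ω] {S : Subgroup Ω} {F : FusionSystem S} {p : ℕ}
    (h : F.HasTerminatingResidualSeries p) :
    ∀ [Fact p.Prime] [Finite S], IsPGroup p S → F.IsSaturated p → PP p F := by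
  induction h with
  | trivial F p hS0 =>
    intro _ _ _ hF
    exact pp_of_trivial p F hS0 hF
  | step F E p D hFE hED _ ih =>
    intro _ _ hS hF
    have hTS : E.hyperfocalSubgroup p ≤ _ := Cfsg.Agent.Helper25.hyperfocalSubgroup_le E p
    haveI : Finite ↥(E.hyperfocalSubgroup p) := Cfsg.Agent.Helper25.finite_of_le_finite hTS
    have hPD : PP p D := ih (hS.to_le hTS) hED.1
    have hPE : PP p E := pp_of_pResidual p hS E hFE.1 D hED hPD
    exact pp_of_pPrimeResidual p hS F E hF hFE hPE

end Cfsg.Agent.Helper21.TRS
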